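import Cfsg.Agent.Known.PrimeGraphOrth.Symp
import Cfsg.Agent.Classical.Orth.POmegaCard
import Cfsg.Agent.Classical.Misc.UnitaryCommutingUnipotent
import Mathlib

/-! The prime graph of `Ω (2n+1, q)`, `q` odd. -/

set_option autoImplicit false
set_option linter.style.haveILetI false
set_option linter.unusedSectionVars false

open Matrix Cfsg.Lib.Classical Cfsg.Lib.Classical.Refl

namespace Cfsg.Lib.PrimeGraphOrth

universe u

variable {F : Type u} [Field F] [Fintype F]

local notation "Kc" => AlgebraicClosure F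

theorem card_idx (n : ℕ) : Fintype.card (Unit ⊕ (Fin n ⊕ Fin n)) = 2 * n + 1 := by simp; omega

theorem nat_four_coprime {N : ℕ} (h : Odd N) : Nat.Coprime 4 N :=
  Nat.Coprime.pow_left 2 (Nat.coprime_two_left.2 h)

theorem mem_omega_odd (h2 : (2 : F) ≠ 0) {n : ℕ} (hn : 1 ≤ n) (g : Cfsg.isometryGroup F (⇑(oddForm n F)))
    (hg : Odd (orderOf g)) : g ∈ Cfsg.Omega F (⇑(oddForm n F)) := by
  classical
  haveI : (Cfsg.Omega F (⇑(oddForm n F))).Normal := by unfold Cfsg.Omega; infer_instance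
  have h4 := Subgroup.pow_index_mem (Cfsg.Omega F (⇑(oddForm n F))) g
  rw [index_omega_odd _ h2 (oddForm_nondegenerate h2 n) (by rw [card_idx]; omega)] at h4
  obtain ⟨j, hj⟩ := exists_pow_eq_self_of_coprime (x := g) (n := 4) (nat_four_coprime hg)
  rw [← hj]
  exact pow_mem h4 _

theorem det_of_mem {n : ℕ} {g : Cfsg.isometryGroup F (⇑(oddForm n F))} (hg : g ∈ Cfsg.Omega F (⇑(oddForm n F))) :
    (mat (oddForm n F) g).det = 1 := by
  classical
  exact congrArg Units.val (hom_eq_one_of_omega (oddForm n F) (detHom (oddForm n F)) hg)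

theorem pomega_range (h2 : (2 : F) ≠ 0) {n : ℕ} (hn : 3 ≤ n) (m : ℕ) :
    m ∈ Set.range (orderOf : Cfsg.POmega F (⇑(oddForm n F)) → ℕ) ↔
      ∃ g ∈ Cfsg.Omega F (⇑(oddForm n F)), orderOf g = m := by
  classical
  have hz := center_card_one (oddForm n F) (oddForm_nondegenerate h2 n) (by rw [card_idx]; omega) fun h hh e => by
    exfalso
    have h3 := det_of_mem hh
    rw [e, Matrix.det_neg, Matrix.det_one, mul_one, card_idx, Odd.neg_one_pow ⟨n, rfl⟩] at h3
    exact h2 (by linear_combination -h3)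
  have key : ∀ g : ↥(Cfsg.Omega F (⇑(oddForm n F))), orderOf (QuotientGroup.mk g : Cfsg.POmega F (⇑(oddForm n F))) =
      orderOf (g : Cfsg.isometryGroup F (⇑(oddForm n F))) := fun g => by
    rw [Subgroup.orderOf_coe]
    refine Nat.dvd_antisymm (orderOf_map_dvd (QuotientGroup.mk' _) g) ?_
    apply orderOf_dvd_of_pow_eq_one
    have h1 := pow_orderOf_eq_one (QuotientGroup.mk g : Cfsg.POmega F (⇑(oddForm n F)))
    rw [← QuotientGroup.mk_pow, QuotientGroup.eq_one_iff] at h1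
    exact (Subgroup.eq_bot_iff_forall _).1 (Subgroup.card_eq_one.1 hz) _ h1
  constructor
  · rintro ⟨x, rfl⟩
    obtain ⟨g, rfl⟩ := QuotientGroup.mk_surjective x
    exact ⟨g.1, g.2, (key g).symm⟩
  · rintro ⟨g, hg, rfl⟩
    exact ⟨QuotientGroup.mk ⟨g, hg⟩, key ⟨g, hg⟩⟩

theorem mem_rootSet_of_eigen {ι : Type*} [Fintype ι] [DecidableEq ι] (M : Matrix ι ι F) (c : F) {v : ι → F}
    (hv : v ≠ 0) (h : M *ᵥ v = c • v) : algebraMap F Kc c ∈ rootSet M := by
  rw [mem_rootSet, Matrix.charpoly_map]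
  refine Polynomial.IsRoot.map ?_
  rw [Polynomial.IsRoot, Matrix.eval_charpoly, ← Matrix.exists_mulVec_eq_zero_iff]
  refine ⟨v, hv, ?_⟩
  rw [Matrix.sub_mulVec, Matrix.scalar_apply, ← Matrix.smul_one_eq_diagonal, Matrix.smul_mulVec, Matrix.one_mulVec, h,
    sub_self]

theorem one_mem_rootSet (h2 : (2 : F) ≠ 0) {n : ℕ} {g : Cfsg.isometryGroup F (⇑(oddForm n F))}
    (hg : (mat (oddForm n F) g).det = 1) : (1 : Kc) ∈ rootSet (mat (oddForm n F) g) := by
  classical
  obtain ⟨v, hv, hAv⟩ := OrthSpectrum.exists_fixed (oddForm n F) h2 (oddForm_nondegenerate h2 n)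
    (by rw [card_idx]; exact ⟨n, rfl⟩) _ ((mem_iff _).mp g.2) hg
  rw [← map_one (algebraMap F Kc)]
  exact mem_rootSet_of_eigen _ 1 hv (by rw [one_smul]; exact hAv)

theorem exists_p_elt (h2 : (2 : F) ≠ 0) (p : ℕ) [Fact p.Prime] [CharP F p] {j : ℕ} (hj : 1 ≤ j) :
    ∃ u : Cfsg.isometryGroup F (⇑(oddForm j F)), orderOf u = p := by
  refine exists_prime_orderOf_dvd_card' p ?_
  rw [oddForm_coe, OrthCard.card_odd h2 j, Nat.card_eq_fintype_card]
  obtain ⟨e, -, he⟩ := FiniteField.card F p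
  rw [he, ← pow_mul]
  exact Dvd.dvd.mul_right (Dvd.dvd.mul_left (dvd_pow_self p (Nat.mul_ne_zero e.pos.ne' (by positivity))) 2) _

theorem exists_invol_omega (h2 : (2 : F) ≠ 0) {j : ℕ} (hj : 1 ≤ j) :
    ∃ u ∈ Cfsg.Omega F (⇑(oddForm j F)), orderOf u = 2 := by
  classical
  have hc := Subgroup.card_mul_index (Cfsg.Omega F (⇑(oddForm j F)))
  rw [index_omega_odd _ h2 (oddForm_nondegenerate h2 j) (by rw [card_idx]; omega)] at hc
  have hO : Nat.card (Cfsg.isometryGroup F (⇑(oddForm j F))) =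
      2 * Nat.card F ^ (j ^ 2) * OrthCard.prodQ (Nat.card F) j := by
    rw [oddForm_coe]; exact OrthCard.card_odd h2 j
  have h4 : 4 ∣ OrthCard.prodQ (Nat.card F) j := by
    refine dvd_trans ?_ (Finset.dvd_prod_of_mem (fun i => Nat.card F ^ (2 * (i + 1)) - 1) (Finset.mem_range.2 hj))
    rw [Nat.card_eq_fintype_card]
    obtain ⟨b, hb⟩ := odd_card h2
    rw [hb, show (2 * b + 1) ^ (2 * (0 + 1)) = 4 * (b * b + b) + 1 by ring, Nat.add_sub_cancel]
    exact dvd_mul_right _ _
  have h2d : 2 ∣ Nat.card (Cfsg.Omega F (⇑(oddForm j F))) := by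
    obtain ⟨c, hc4⟩ := h4
    refine ⟨Nat.card F ^ (j ^ 2) * c, ?_⟩
    rw [hO, hc4] at hc
    linarith
  obtain ⟨u, hu⟩ := exists_prime_orderOf_dvd_card' 2 h2d
  exact ⟨u.1, u.2, by rw [Subgroup.orderOf_coe]; exact hu⟩

theorem glue_omega {i j n : ℕ} {Q : QuadraticForm F (Fin (2 * i) → F)}
    (φ : Cfsg.isometryGroup F (⇑Q) × Cfsg.isometryGroup F (⇑(oddForm j F)) →*
      Cfsg.isometryGroup F (⇑(oddForm n F)))
    {u : Cfsg.isometryGroup F (⇑(oddForm j F))} (hu : u ∈ Cfsg.Omega F (⇑(oddForm j F))) :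
    φ (1, u) ∈ Cfsg.Omega F (⇑(oddForm n F)) := by
  have h := Abelianization.commutator_subset_ker
    (Abelianization.of.comp (φ.comp (MonoidHom.inr _ _))) hu
  rw [MonoidHom.mem_ker, MonoidHom.comp_apply, ← MonoidHom.mem_ker, Abelianization.ker_of] at h
  exact h

variable {p : ℕ} [Fact p.Prime] [CharP F p] {n s k η : ℕ}

/-- No element of order `s * p` with a long orbit. -/
theorem orth_char_no (h2 : (2 : F) ≠ 0) (hn : 1 ≤ n) (hs : s.Prime) (hs2 : s ≠ 2) (hsp : s ≠ p)
    (hk : k = orderOf ((Fintype.card F : ℕ) : ZMod s)) (hη : (Odd k ∧ η = k) ∨ (Even k ∧ 2 * η = k))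
    (g : Cfsg.isometryGroup F (⇑(oddForm n F))) (hg : orderOf g = s * p) : η < n := by
  classical
  have hp : p.Prime := Fact.out
  haveI := Fact.mk hs
  by_contra hcon
  have hA : orderOf (g ^ p) = s := by
    rw [orderOf_pow' g hp.ne_zero, hg, Nat.gcd_mul_left_left, Nat.mul_div_cancel _ hp.pos]
  have hU : orderOf (g ^ s) = p := by
    rw [orderOf_pow' g hs.ne_zero, hg, Nat.gcd_mul_right_left, Nat.mul_div_cancel_left _ hs.pos]
  have hsF : (s : F) ≠ 0 := fun h => hsp ((Nat.prime_dvd_prime_iff_eq hp hs).1 ((CharP.cast_eq_zero_iff F p s).1 h)).symm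
  obtain ⟨M, hM⟩ : ∃ M, M = mat (oddForm n F) (g ^ p) := ⟨_, rfl⟩
  let mh : Cfsg.isometryGroup F (⇑(oddForm n F)) →* Matrix (Unit ⊕ (Fin n ⊕ Fin n)) (Unit ⊕ (Fin n ⊕ Fin n)) F :=
    (Units.coeHom _).comp (Cfsg.isometryGroup F (⇑(oddForm n F))).subtype
  have hmh : Function.Injective mh := fun x y h => Subtype.ext (Units.ext h)
  have hMs : M ^ s = 1 := by
    show M ^ s = 1
    rw [hM, show mat (oddForm n F) (g ^ p) = mh (g ^ p) from rfl, ← map_pow,
      orderOf_dvd_iff_pow_eq_one.1 (dvd_of_eq hA), map_one]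
  have hM1 : M ^ 1 ≠ 1 := fun h => hs.one_lt.ne (by
    rw [← hA, orderOf_eq_one_iff.2 (hmh (by rw [map_one]; rw [pow_one] at h; rw [← h, hM]; rfl))])
  obtain ⟨z, hz, hz1⟩ := exists_root_pow_ne p hMs hsF hM1
  have hj : orderOf (z ^ 1) = s := orderOf_eq_prime (by rw [← pow_mul, one_mul]; exact pow_eq_one_of_mem hMs hz) hz1
  obtain ⟨h1, -⟩ := orbit M (fun w hw => hM ▸ inv_roots_orth _ (oddForm_nondegenerate h2 n) (g ^ p) w hw) hs hs2 hsp hz
    hj hk hη ((rootSet M).erase 1) (fun w hw hw1 => Finset.mem_erase.2 ⟨by simpa using hw1, hw⟩)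
  have h1mem : (1 : Kc) ∈ rootSet M := hM ▸ one_mem_rootSet h2 (det_of_mem (mem_omega_odd h2 hn _ (by
    rw [hA]; exact hs.odd_of_ne_two hs2)))
  rw [Finset.card_erase_of_mem h1mem] at h1
  have h2' := card_rootSet M
  rw [card_idx] at h2'
  have hfull : (rootSet M).card = 2 * n + 1 := by omega
  let e' : (Unit ⊕ (Fin n ⊕ Fin n)) ≃ Fin (Fintype.card (Unit ⊕ (Fin n ⊕ Fin n))) := Fintype.equivFin _
  let φ : Cfsg.isometryGroup F (⇑(oddForm n F)) →* Matrix (Fin (Fintype.card (Unit ⊕ (Fin n ⊕ Fin n))))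
      (Fin (Fintype.card (Unit ⊕ (Fin n ⊕ Fin n)))) F :=
    ((Matrix.reindexAlgEquiv F F e').toMonoidHom).comp mh
  have hφ : Function.Injective φ := (Matrix.reindexAlgEquiv F F e').injective.comp hmh
  have hnod : ((φ (g ^ p)).map (algebraMap F Kc)).charpoly.roots.Nodup := by
    have h1 : (φ (g ^ p)).charpoly = M.charpoly := hM ▸ Matrix.charpoly_reindex e' _
    rw [Matrix.charpoly_map, h1, ← Matrix.charpoly_map, ← Multiset.toFinset_card_eq_card_iff_nodup,
      IsAlgClosed.card_roots_eq_natDegree, Matrix.charpoly_natDegree_eq_dim, card_idx, ← hfull]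
    simp [rootSet]
  haveI : Nonempty (Fin (Fintype.card (Unit ⊕ (Fin n ⊕ Fin n)))) := ⟨⟨0, Fintype.card_pos⟩⟩
  haveI : CharP (Matrix (Fin (Fintype.card (Unit ⊕ (Fin n ⊕ Fin n))))
      (Fin (Fintype.card (Unit ⊕ (Fin n ⊕ Fin n)))) F) p := inferInstance
  have hN : IsNilpotent (φ (g ^ s) - 1) := ⟨p, by
    rw [sub_pow_char_of_commute p (Commute.one_right _), one_pow, ← map_pow,
      orderOf_dvd_iff_pow_eq_one.1 (dvd_of_eq hU), map_one, sub_self]⟩
  have hc : Commute (φ (g ^ p)) (φ (g ^ s) - 1) :=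
    (((Commute.refl g).pow_pow p s).map φ).sub_right (Commute.one_right _)
  have h0 := UnitaryCommUnipotent.nilpotent_eq_zero_of_nodup _ _ hnod
    (hc.map (algebraMap F Kc).mapMatrix) (hN.map (algebraMap F Kc).mapMatrix)
  have h3 : φ (g ^ s) - 1 = 0 := Matrix.map_injective (algebraMap F Kc).injective
    (h0.trans (Matrix.map_zero _ (map_zero _)).symm)
  have h4 : g ^ s = 1 := hφ ((sub_eq_zero.1 h3).trans (map_one φ).symm)
  rw [h4, orderOf_one] at hU
  exact hp.one_lt.ne hU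

theorem k_pos (hs : s.Prime) (hsp : s ≠ p) (hk : k = orderOf ((Fintype.card F : ℕ) : ZMod s)) : 0 < k := by
  haveI := Fact.mk hs
  refine hk ▸ orderOf_pos_iff.2 (isOfFinOrder_iff_pow_eq_one.2 ⟨s - 1, by have := hs.two_le; omega,
    ZMod.pow_card_sub_one_eq_one fun h0 => ?_⟩)
  rw [ZMod.natCast_eq_zero_iff] at h0
  obtain ⟨e, hp, he⟩ := FiniteField.card F p
  rw [he] at h0
  exact hsp ((Nat.prime_dvd_prime_iff_eq hs hp).1 (hs.dvd_of_dvd_pow h0))

/-- A moved space of dimension at most `2η` carrying an element of order `s`. -/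
theorem exists_small (hs : s.Prime) (hs2 : s ≠ 2) (hsp : s ≠ p) (hk : k = orderOf ((Fintype.card F : ℕ) : ZMod s))
    (hη : (Odd k ∧ η = k) ∨ (Even k ∧ 2 * η = k)) :
    ∃ (Q : QuadraticForm F (Fin (2 * η) → F)) (g : Cfsg.isometryGroup F (⇑Q)),
      (QuadraticMap.polarBilin Q).Nondegenerate ∧ orderOf g = s ∧ (∀ v, mat Q g *ᵥ v = v → v = 0) := by
  classical
  haveI := Fact.mk hs
  have hk0 := k_pos hs hsp hk
  have hη1 : 1 ≤ η := by rcases hη with ⟨-, h⟩ | ⟨he, h⟩ <;> omega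
  obtain ⟨f1, f2⟩ := Cfsg.Agent.S2469.half_facts (Fintype.card_pos (α := F)) hk hk0 hη
  obtain ⟨x, hx⟩ := Cfsg.Agent.S2469.exists_sp_element (F := F) p η η hη1 le_rfl s
    ((Nat.even_or_odd k).elim (fun h => Or.inr (f2 h).2) (fun h => Or.inl (f1 h)))
  have hsF : (s : F) ≠ 0 := fun h =>
    hsp ((Nat.prime_dvd_prime_iff_eq Fact.out hs).1 ((CharP.cast_eq_zero_iff F p s).1 h)).symm
  obtain ⟨i, hi, Q, g, hQ, hg, hfree⟩ := core x (hx ▸ hs.odd_of_ne_two hs2) (hx.symm ▸ hsF)
  rw [hx] at hg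
  let mh : Cfsg.isometryGroup F (⇑Q) →* Matrix (Fin (2 * i)) (Fin (2 * i)) F :=
    (Units.coeHom _).comp (Cfsg.isometryGroup F (⇑Q)).subtype
  have hMs : (mat Q g) ^ s = 1 := by
    rw [show mat Q g = mh g from rfl, ← map_pow, orderOf_dvd_iff_pow_eq_one.1 (dvd_of_eq hg), map_one]
  have hM1 : (mat Q g) ^ 1 ≠ 1 := fun h => hs.one_lt.ne (by
    rw [← hg, orderOf_eq_one_iff.2 (Subtype.ext (Units.ext ((pow_one _).symm.trans h)))])
  obtain ⟨z, hz, hz1⟩ := exists_root_pow_ne p hMs hsF hM1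
  have hj : orderOf (z ^ 1) = s := orderOf_eq_prime (by rw [← pow_mul, one_mul]; exact pow_eq_one_of_mem hMs hz) hz1
  obtain ⟨h1, -⟩ := orbit (mat Q g) (fun w hw => inv_roots_orth _ hQ g w hw) hs hs2 hsp hz hj hk hη
    (rootSet (mat Q g)) (fun w hw _ => hw)
  have h2 := card_rootSet (mat Q g)
  rw [Fintype.card_fin] at h2
  obtain rfl : i = η := by omega
  exact ⟨Q, g, hQ, hg, hfree⟩

/-- An element of order `s * p`. -/
theorem orth_char_yes (h2 : (2 : F) ≠ 0) (hs : s.Prime) (hs2 : s ≠ 2) (hsp : s ≠ p)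
    (hk : k = orderOf ((Fintype.card F : ℕ) : ZMod s)) (hη : (Odd k ∧ η = k) ∨ (Even k ∧ 2 * η = k))
    (hlt : η < n) : ∃ g ∈ Cfsg.Omega F (⇑(oddForm n F)), orderOf g = s * p := by
  classical
  have hp : p.Prime := Fact.out
  have hp2 : p ≠ 2 := fun h => h2 (by subst h; exact CharTwo.two_eq_zero)
  obtain ⟨Q, g, hQ, hg, -⟩ := exists_small hs hs2 hsp hk hη
  obtain ⟨u, hu⟩ := exists_p_elt h2 p (show 1 ≤ n - η by omega)
  obtain ⟨φ, -, -, hφ, -⟩ := glue h2 (show η + (n - η) = n by omega) Q hQ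
  have ho : orderOf (φ (g, u)) = s * p := by
    rw [orderOf_injective φ hφ, Prod.orderOf_mk, hg, hu]
    exact ((Nat.coprime_primes hs hp).2 hsp).lcm_eq_mul
  exact ⟨_, mem_omega_odd h2 (by omega) _ (ho ▸ (hs.odd_of_ne_two hs2).mul (hp.odd_of_ne_two hp2)), ho⟩

/-- Necessity for `2 * s`. -/
theorem orth_two_no (h2 : (2 : F) ≠ 0) (hn : 1 ≤ n) (hs : s.Prime) (hs2 : s ≠ 2) (hsp : s ≠ p)
    (hk : k = orderOf ((Fintype.card F : ℕ) : ZMod s)) (hη : (Odd k ∧ η = k) ∨ (Even k ∧ 2 * η = k))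
    (g : Cfsg.isometryGroup F (⇑(oddForm n F))) (hgO : g ∈ Cfsg.Omega F (⇑(oddForm n F)))
    (hg : orderOf g = 2 * s) : η < n ∨ (η = n ∧ Crit (Fintype.card F) s n) := by
  classical
  haveI := Fact.mk hs
  have hp : p.Prime := Fact.out
  have hsF : (s : F) ≠ 0 := fun h => hsp ((Nat.prime_dvd_prime_iff_eq hp hs).1 ((CharP.cast_eq_zero_iff F p s).1 h)).symm
  let Q := oddForm n F
  have hQ := oddForm_nondegenerate (F := F) h2 n
  obtain ⟨M, hM⟩ : ∃ M, M = mat (oddForm n F) g := ⟨_, rfl⟩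
  let mh : Cfsg.isometryGroup F (⇑(oddForm n F)) →* Matrix (Unit ⊕ (Fin n ⊕ Fin n)) (Unit ⊕ (Fin n ⊕ Fin n)) F :=
    (Units.coeHom _).comp (Cfsg.isometryGroup F (⇑(oddForm n F))).subtype
  have hmh : Function.Injective mh := fun x y h => Subtype.ext (Units.ext h)
  have hMmh : M = mh g := hM
  have hne : ∀ j, 0 < j → j < 2 * s → M ^ j ≠ 1 := fun j hj0 hj h => by
    rw [hMmh, ← map_pow, ← map_one mh] at h
    have := Nat.le_of_dvd hj0 (hg ▸ orderOf_dvd_of_pow_eq_one (hmh h))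
    omega
  have hMN : M ^ (2 * s) = 1 := by rw [hMmh, ← map_pow, ← hg, pow_orderOf_eq_one, map_one]
  have hNF : ((2 * s : ℕ) : F) ≠ 0 := by push_cast; exact mul_ne_zero h2 hsF
  have hs3 : 2 < s := lt_of_le_of_ne hs.two_le (Ne.symm hs2)
  obtain ⟨z, hz, hz2⟩ := exists_root_pow_ne p hMN hNF (hne 2 (by omega) (by omega))
  have hzN := pow_eq_one_of_mem hMN hz
  have hj : orderOf (z ^ 2) = s := orderOf_eq_prime (by rw [← pow_mul]; exact hzN) hz2
  have h1mem : (1 : Kc) ∈ rootSet M := hM ▸ one_mem_rootSet h2 (det_of_mem hgO)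
  set T := (rootSet M).filter fun w => w ^ 2 ≠ 1 with hT
  obtain ⟨ha, hb⟩ := orbit M (fun w hw => hM ▸ inv_roots_orth _ hQ g w hw) hs hs2 hsp hz hj hk hη T
    (fun w hw hw2 => Finset.mem_filter.2 ⟨hw, hw2⟩)
  have hTsub : T ⊆ (rootSet M).erase 1 := fun w hw => by
    obtain ⟨h1, h2⟩ := Finset.mem_filter.1 hw
    exact Finset.mem_erase.2 ⟨fun h => h2 (by rw [h, one_pow]), h1⟩
  have hc1 := Finset.card_le_card hTsub
  rw [Finset.card_erase_of_mem h1mem] at hc1
  have hc2 := card_rootSet M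
  rw [card_idx] at hc2
  rcases lt_trichotomy η n with h | h | h
  · exact Or.inl h
  · refine Or.inr ⟨h, ?_⟩
    obtain ⟨-, -, hall⟩ := hb (by omega)
    have hfull : (rootSet M).card = Fintype.card (Unit ⊕ (Fin n ⊕ Fin n)) := by rw [card_idx]; omega
    have hTeq : T = (rootSet M).erase 1 := Finset.eq_of_subset_of_card_le hTsub (by
      rw [Finset.card_erase_of_mem h1mem]; omega)
    have hsign : ∀ w ∈ T, w ^ s = z ^ s := fun w hw => by
      obtain ⟨-, -, i, hi⟩ := hall w hw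
      have hqodd := (odd_card h2).pow (n := i)
      have hzs : z ^ s = 1 ∨ z ^ s = -1 := mul_self_eq_one_iff.1 (by rw [← pow_add, ← two_mul]; exact hzN)
      have hfix : (z ^ s) ^ Fintype.card F ^ i = z ^ s ∧ (z ^ s)⁻¹ = z ^ s := by
        rcases hzs with e | e <;> rw [e]
        · simp
        · exact ⟨hqodd.neg_one_pow, by norm_num⟩
      rcases hi with rfl | rfl
      · rw [← pow_mul, mul_comm, pow_mul, hfix.1]
      · rw [inv_pow, ← pow_mul, mul_comm, pow_mul, hfix.1, hfix.2]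
    have hzs : z ^ s = -1 := by
      refine (mul_self_eq_one_iff.1 (by rw [← pow_add, ← two_mul]; exact hzN)).resolve_left fun e => ?_
      obtain ⟨w, hw, hws⟩ := exists_root_pow_ne p hMN hNF (hne s (by omega) (by omega))
      rcases eq_or_ne w 1 with rfl | hw1
      · exact hws (one_pow _)
      · exact hws ((hsign w (hTeq ▸ Finset.mem_erase.2 ⟨hw1, hw⟩)).trans e)
    have hfac : (M - 1) * (M ^ s + 1) = 0 := by
      have h0 := aeval_eq_zero_of_roots M hfull ((Polynomial.X - 1) * (Polynomial.X ^ s + 1)) (fun w hw => by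
        rw [map_mul, map_sub, map_add, map_pow, Polynomial.aeval_X, map_one, mul_eq_zero]
        rcases eq_or_ne w 1 with rfl | hw1
        · exact Or.inl (sub_self _)
        · exact Or.inr (by rw [hsign w (hTeq ▸ Finset.mem_erase.2 ⟨hw1, hw⟩), hzs, neg_add_cancel]))
      rwa [map_mul, map_sub, map_add, map_pow, Polynomial.aeval_X, map_one] at h0
    have hneg1 : algebraMap F Kc (-1) ∉ rootSet M := fun h => by
      have hne1 : algebraMap F Kc (-1) ≠ 1 := fun e => by
        rw [← map_one (algebraMap F Kc)] at e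
        exact h2 (by linear_combination -((algebraMap F Kc).injective e))
      have := (Finset.mem_filter.1 (hTeq.symm ▸ Finset.mem_erase.2 ⟨hne1, h⟩ : algebraMap F Kc (-1) ∈ T)).2
      simp at this
    -- the decomposition
    set a := toEnd (oddForm n F) g with ha'
    set b := toEnd (oddForm n F) (g ^ 2) with hb'
    have hbs : b ^ s = 1 := by rw [hb', ← map_pow, ← pow_mul, ← hg, pow_orderOf_eq_one, map_one]
    have hcp := FormSemisimple.isCompl_eigen b (1 : F) hsF hbs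
    rw [one_smul] at hcp
    set I := LinearMap.range (b - 1) with hI
    set W := LinearMap.ker (b - 1) with hW
    have hb2 : ∀ v, b v = a (a v) := fun v => by rw [hb', map_pow, sq]; rfl
    have hMv : ∀ v, a v = M *ᵥ v := fun v => by rw [hM]; exact toEnd_apply _ g v
    have hts : ∀ v, mat (oddForm n F) (g ^ s) *ᵥ v = (M ^ s) *ᵥ v := fun v => by
      rw [hMmh, ← map_pow]; rfl
    have hgI : ∀ x ∈ I, mat (oddForm n F) (g ^ s) *ᵥ x = -x := by
      rintro _ ⟨v, rfl⟩
      rw [hts, eq_neg_iff_add_eq_zero]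
      have e : (b - 1) v = ((M - 1) * (M + 1)) *ᵥ v := by
        rw [LinearMap.sub_apply, Module.End.one_apply, hb2, hMv, hMv, sub_mul, one_mul, mul_add, mul_one,
          Matrix.sub_mulVec, Matrix.add_mulVec, Matrix.add_mulVec, Matrix.one_mulVec, Matrix.mulVec_mulVec]
        abel
      rw [e]
      calc (M ^ s) *ᵥ ((M - 1) * (M + 1)) *ᵥ v + ((M - 1) * (M + 1)) *ᵥ v
          = ((M ^ s + 1) * ((M - 1) * (M + 1))) *ᵥ v := by
            rw [← Matrix.mulVec_mulVec (M := M ^ s + 1) (v := v), Matrix.add_mulVec, Matrix.one_mulVec]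
        _ = 0 := by
            rw [← mul_assoc, (show Commute (M ^ s + 1) (M - 1) from
              (((Commute.refl M).pow_left s).sub_right (Commute.one_right _)).add_left
                ((Commute.one_left _).sub_right (Commute.one_right _))).eq, hfac, zero_mul, Matrix.zero_mulVec]
    have haW : ∀ x ∈ W, a x = x := fun x hx => by
      rw [hW, LinearMap.mem_ker, LinearMap.sub_apply, Module.End.one_apply, sub_eq_zero, hb2] at hx
      by_contra hne'
      refine hneg1 (mem_rootSet_of_eigen M (-1) (v := a x - x) (sub_ne_zero.2 hne') ?_)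
      rw [← hMv, map_sub, hx, neg_smul, one_smul, neg_sub]
    have hgW : ∀ x ∈ W, mat (oddForm n F) (g ^ s) *ᵥ x = x := fun x hx => by
      rw [← toEnd_apply, map_pow, ← ha']
      exact Module.End.pow_apply a s x ▸ Function.iterate_fixed (haW x hx) _
    have hWd : Module.finrank F W = 1 := by
      refine le_antisymm ?_ ?_
      · have h1 : W ≤ a.eigenspace 1 := fun x hx => by
          rw [Module.End.mem_eigenspace_iff, one_smul]; exact haW x hx
        refine (Submodule.finrank_mono h1).trans ((LinearMap.finrank_eigenspace_le a 1).trans ?_)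
        have hch : a.charpoly = M.charpoly := by rw [hM]; exact Matrix.charpoly_toLin' _
        rw [hch, Polynomial.eq_rootMultiplicity_map (algebraMap F Kc).injective, ← Matrix.charpoly_map,
          ← Polynomial.count_roots]
        refine Multiset.nodup_iff_count_le_one.1 ?_ _
        rw [← Multiset.toFinset_card_eq_card_iff_nodup, IsAlgClosed.card_roots_eq_natDegree,
          Matrix.charpoly_natDegree_eq_dim, ← hfull]
        simp [rootSet]
      · obtain ⟨v, hv, hAv⟩ := OrthSpectrum.exists_fixed (oddForm n F) h2 hQ (by rw [card_idx]; exact ⟨n, rfl⟩) M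
          (hM ▸ (mem_iff _).mp g.2) (hM ▸ det_of_mem hgO)
        have hav : a v = v := (hMv v).trans hAv
        refine Submodule.one_le_finrank_iff.2 fun h => hv ?_
        have hvW : v ∈ W := by
          rw [hW, LinearMap.mem_ker, LinearMap.sub_apply, Module.End.one_apply, sub_eq_zero, hb2, hav, hav]
        rw [h] at hvW
        exact hvW
    have hId : Module.finrank F I = 2 * n := by
      have h := Submodule.finrank_add_eq_of_isCompl hcp
      rw [hWd, Module.finrank_fintype_fun_eq_card, card_idx] at h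
      omega
    have hqs : (Fintype.card F : ZMod s) ≠ 0 := fun e => (k_pos (F := F) hs hsp hk).ne' (by
      rw [hk, e, orderOf_zero])
    refine (spin_neg (oddForm n F) h2 hQ hn hs2 hqs (g ^ s) I W hcp.symm hId hWd hgI hgW b (toEnd_iso _ _) hbs ?_ ?_).1
      (hom_eq_one_of_omega _ _ (pow_mem hgO s))
    · rintro _ ⟨v, rfl⟩
      exact ⟨b v, by simp⟩
    · intro x hx hx'
      have : x ∈ W ⊓ I := ⟨by rw [hW]; simp [hx'], hx⟩
      rw [hcp.inf_eq_bot, Submodule.mem_bot] at this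
      exact this
  · exfalso
    omega

/-- Sufficiency for `2 * s`. -/
theorem orth_two_yes (h2 : (2 : F) ≠ 0) (hs : s.Prime) (hs2 : s ≠ 2) (hsp : s ≠ p)
    (hk : k = orderOf ((Fintype.card F : ℕ) : ZMod s)) (hη : (Odd k ∧ η = k) ∨ (Even k ∧ 2 * η = k))
    (h : η < n ∨ (η = n ∧ Crit (Fintype.card F) s n)) :
    ∃ g ∈ Cfsg.Omega F (⇑(oddForm n F)), orderOf g = 2 * s := by
  classical
  haveI := Fact.mk hs
  have hk0 := k_pos (F := F) hs hsp hk
  have hη1 : 1 ≤ η := by rcases hη with ⟨-, h⟩ | ⟨he, h⟩ <;> omega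
  have hn1 : 1 ≤ n := by omega
  obtain ⟨Q, g, hQ, hg, hfree⟩ := exists_small hs hs2 hsp hk hη
  obtain ⟨φ, e, c, hφ, -, -, hact⟩ := glue h2 (show η + (n - η) = n by omega) Q hQ
  have hg1 : orderOf (φ (g, 1)) = s := by
    rw [orderOf_injective φ hφ, Prod.orderOf_mk, hg, orderOf_one, Nat.lcm_one_right]
  have hgO : φ (g, 1) ∈ Cfsg.Omega F (⇑(oddForm n F)) := mem_omega_odd h2 hn1 _ (hg1 ▸ hs.odd_of_ne_two hs2)
  have hco : (Nat.Coprime s 2) := (Nat.coprime_primes hs Nat.prime_two).2 hs2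
  rcases h with hlt | ⟨hηn, hcr⟩
  · obtain ⟨u, huO, hu⟩ := exists_invol_omega h2 (show 1 ≤ n - η by omega)
    refine ⟨φ (g, u), ?_, ?_⟩
    · rw [show (g, u) = (g, 1) * ((1 : Cfsg.isometryGroup F (⇑Q)), u) by simp, map_mul]
      exact mul_mem hgO (glue_omega φ huO)
    · rw [orderOf_injective φ hφ, Prod.orderOf_mk, hg, hu, hco.lcm_eq_mul, mul_comm]
  · obtain ⟨z0, hz0⟩ := exists_of_end Q (-1 : Module.End F (Fin (2 * η) → F))
      (fun v => by rw [LinearMap.neg_apply, Module.End.one_apply, QuadraticMap.map_neg])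
      (.of_pow_eq_one (n := 2) (LinearMap.ext fun v => by simp [pow_two]) two_ne_zero)
    have hz0v : ∀ v, mat Q z0 *ᵥ v = -v := fun v => by rw [← toEnd_apply, hz0]; rfl
    have hz02 : orderOf z0 = 2 := by
      refine orderOf_eq_prime (toEnd_injective Q (by
        rw [map_pow, hz0, map_one]; exact LinearMap.ext fun v => by simp [pow_two])) fun h => ?_
      have h1 := hz0v (Pi.single ⟨0, by omega⟩ 1)
      rw [h, show mat Q 1 = 1 from rfl, Matrix.one_mulVec] at h1
      have h3 := congrFun h1 ⟨0, by omega⟩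
      simp at h3
      exact h2 (by linear_combination h3)
    let y := φ (z0, 1)
    set I := (LinearMap.range (LinearMap.inl F (Fin (2 * η) → F) (Unit ⊕ (Fin (n - η) ⊕ Fin (n - η)) → F))).map
      e.toLinearMap with hI
    set W := (LinearMap.range (LinearMap.inr F (Fin (2 * η) → F) (Unit ⊕ (Fin (n - η) ⊕ Fin (n - η)) → F))).map
      e.toLinearMap with hW
    have hc : IsCompl I W := (Submodule.orderIsoMapComap e).isCompl_iff.1 LinearMap.isCompl_range_inl_inr
    have hId : Module.finrank F I = 2 * n := by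
      rw [hI, LinearEquiv.finrank_map_eq, LinearMap.finrank_range_of_inj LinearMap.inl_injective,
        Module.finrank_fintype_fun_eq_card, Fintype.card_fin, hηn]
    have hWd : Module.finrank F W = 1 := by
      rw [hW, LinearEquiv.finrank_map_eq, LinearMap.finrank_range_of_inj LinearMap.inr_injective,
        Module.finrank_fintype_fun_eq_card, card_idx, hηn, Nat.sub_self]
    have hgI : ∀ x ∈ I, mat (oddForm n F) y *ᵥ x = -x := by
      rintro _ ⟨_, ⟨v, rfl⟩, rfl⟩
      rw [LinearEquiv.coe_coe, LinearMap.inl_apply, hact, hz0v, Matrix.mulVec_zero, ← map_neg]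
      simp
    have hgW : ∀ x ∈ W, mat (oddForm n F) y *ᵥ x = x := by
      rintro _ ⟨_, ⟨v, rfl⟩, rfl⟩
      rw [LinearEquiv.coe_coe, LinearMap.inr_apply, hact, hz0v, show mat (oddForm (n - η) F) 1 = 1 from rfl,
        Matrix.one_mulVec]
      simp
    set a := toEnd (oddForm n F) (φ (g, 1)) with ha
    have hqs : (Fintype.card F : ZMod s) ≠ 0 := fun e => hk0.ne' (by rw [hk, e, orderOf_zero])
    have hspin : spin (oddForm n F) y = 1 := (spin_neg (oddForm n F) h2 (oddForm_nondegenerate h2 n) hn1 hs2 hqs y I W hc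
      hId hWd hgI hgW a (toEnd_iso _ _) (by rw [ha, ← map_pow, orderOf_dvd_iff_pow_eq_one.1 (dvd_of_eq hg1), map_one])
      (by
        rintro _ ⟨_, ⟨v, rfl⟩, rfl⟩
        refine ⟨(mat Q g *ᵥ v, 0), ⟨mat Q g *ᵥ v, rfl⟩, ?_⟩
        rw [LinearEquiv.coe_coe, LinearMap.inl_apply, ha, toEnd_apply, hact, Matrix.mulVec_zero])
      (by
        rintro _ ⟨_, ⟨v, rfl⟩, rfl⟩ h
        rw [LinearEquiv.coe_coe, LinearMap.inl_apply, ha, toEnd_apply, hact] at h
        rw [LinearEquiv.coe_coe, LinearMap.inl_apply, hfree v (congrArg Prod.fst (e.injective h))]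
        exact map_zero e)).2 hcr
    have hdet : detHom (oddForm n F) y = 1 := Units.ext (by
      show (mat (oddForm n F) y).det = 1
      rw [← LinearMap.det_toLin']
      have he : Matrix.toLin' (mat (oddForm n F) y) = e.conj (LinearMap.prodMap (-1) 1) := by
        refine LinearMap.ext fun x => ?_
        obtain ⟨v, rfl⟩ := e.surjective x
        rw [Matrix.toLin'_apply, hact, hz0v, show mat (oddForm (n - η) F) 1 = 1 from rfl, Matrix.one_mulVec]
        simp [LinearEquiv.conj_apply]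
      rw [he, show e.conj (LinearMap.prodMap (-1) 1) =
        e.toLinearMap.comp ((LinearMap.prodMap (-1) 1).comp e.symm.toLinearMap) from rfl, LinearMap.det_conj,
        LinearMap.det_prodMap, show (-1 : Module.End F (Fin (2 * η) → F)) = (-1 : F) • LinearMap.id by
          refine LinearMap.ext fun v => ?_; simp, LinearMap.det_smul, LinearMap.det_id, map_one]
      simp)
    have hyO : y ∈ Cfsg.Omega F (⇑(oddForm n F)) :=
      (mem_omega_iff _ h2 (oddForm_nondegenerate h2 n) (by rw [card_idx]; omega)).2 ⟨hdet, hspin⟩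
    have hcom : Commute z0 g := ext_mulVec Q fun v => by
      rw [mulVec_mul, mulVec_mul, hz0v, hz0v, Matrix.mulVec_neg]
    refine ⟨φ (z0 * g, 1), ?_, ?_⟩
    · rw [show (z0 * g, (1 : Cfsg.isometryGroup F (⇑(oddForm (n - η) F)))) = (z0, 1) * (g, 1) by simp, map_mul]
      exact mul_mem hyO hgO
    · rw [orderOf_injective φ hφ, Prod.orderOf_mk, orderOf_one, Nat.lcm_one_right,
        hcom.orderOf_mul_eq_mul_orderOf_of_coprime (by rw [hz02, hg]; exact hco.symm), hz02, hg]

/-- An element of order `2 * p`. -/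
theorem orth_two_char (h2 : (2 : F) ≠ 0) (hn : 3 ≤ n) :
    ∃ g ∈ Cfsg.Omega F (⇑(oddForm n F)), orderOf g = 2 * p := by
  classical
  have hp : p.Prime := Fact.out
  have hp2 : p ≠ 2 := fun h => h2 (by subst h; exact CharTwo.two_eq_zero)
  obtain ⟨i, rfl⟩ : ∃ i, n = i + 1 + 1 + 1 := ⟨n - 3, by omega⟩
  set w := i + 1 + 1
  obtain ⟨u0, hu0⟩ : ∃ u0 : Cfsg.isometryGroup F (Cfsg.quadFormPlus w F), orderOf u0 = p := by
    refine exists_prime_orderOf_dvd_card' p ?_
    rw [OrthCard.card_plus (i + 1), Nat.card_eq_fintype_card]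
    obtain ⟨e, -, he⟩ := FiniteField.card F p
    rw [he, ← pow_mul]
    exact Dvd.dvd.mul_right (Dvd.dvd.mul_right (Dvd.dvd.mul_left (dvd_pow_self p
      (Nat.mul_ne_zero e.pos.ne' (by positivity))) 2) _) _
  let ix : Fin w ⊕ Fin w ≃ Fin (2 * w) := finSumFinEquiv.trans (finCongr (two_mul w).symm)
  let L : (Fin (2 * w) → F) ≃ₗ[F] (Fin w ⊕ Fin w → F) := LinearEquiv.funCongrLeft F F ix
  let Q : QuadraticForm F (Fin (2 * w) → F) := (HypQuad.plusForm w F).comp L.toLinearMap
  have hQ : (QuadraticMap.polarBilin Q).Nondegenerate := by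
    have hP := HypQuad.plusForm_nondegenerate (F := F) w
    have h1 : ∀ x, (∀ y, QuadraticMap.polar (⇑Q) x y = 0) → x = 0 := fun x h => by
      refine L.injective ?_
      rw [map_zero]
      refine hP.1 _ fun y => ?_
      have := h (L.symm y)
      simpa [QuadraticMap.polar, Q] using this
    exact ⟨h1, fun x hx => h1 x fun y => by rw [QuadraticMap.polar_comm]; exact hx y⟩
  let M0 : Cfsg.isometryGroup F (Cfsg.quadFormPlus w F) →* Module.End F (Fin (2 * w) → F) :=
    { toFun := fun x => L.symm.conj (Matrix.toLin' x.1.1)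
      map_one' := LinearMap.ext fun v => by simp [LinearEquiv.conj_apply]
      map_mul' := fun x y => LinearMap.ext fun v => by simp [LinearEquiv.conj_apply] }
  have hM0 : Function.Injective M0 := fun x y h =>
    Subtype.ext (Units.ext (Matrix.toLin'.injective (L.symm.conj.injective h)))
  obtain ⟨u1, hu1⟩ := exists_of_end Q (M0 u0) (fun v => by
    show HypQuad.plusForm w F (L (L.symm.conj (Matrix.toLin' u0.1.1) v)) = HypQuad.plusForm w F (L v)
    rw [LinearEquiv.conj_apply]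
    simp only [LinearMap.comp_apply, LinearEquiv.coe_coe, LinearEquiv.symm_symm, LinearEquiv.apply_symm_apply,
      Matrix.toLin'_apply, HypQuad.plusForm_apply]
    exact (u0.2 (L v) (L v))) ((Group.isUnit u0).map M0)
  have hu1o : orderOf u1 = p := by
    rw [← orderOf_injective (toEnd Q) (toEnd_injective Q) u1, hu1, orderOf_injective M0 hM0, hu0]
  obtain ⟨t, htO, ht⟩ := exists_invol_omega (F := F) h2 (le_refl 1)
  obtain ⟨φ, -, -, hφ, -⟩ := glue h2 (show w + 1 = w + 1 from rfl) Q hQ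
  refine ⟨φ (u1, t), ?_, ?_⟩
  · rw [show (u1, t) = (u1, 1) * ((1 : Cfsg.isometryGroup F (⇑Q)), t) by simp, map_mul]
    refine mul_mem (mem_omega_odd h2 (by omega) _ ?_) (glue_omega φ htO)
    rw [orderOf_injective φ hφ, Prod.orderOf_mk, orderOf_one, Nat.lcm_one_right, hu1o]
    exact hp.odd_of_ne_two hp2
  · rw [orderOf_injective φ hφ, Prod.orderOf_mk, hu1o, ht, ((Nat.coprime_primes hp Nat.prime_two).2 hp2).lcm_eq_mul,
      mul_comm]

end Cfsg.Lib.PrimeGraphOrth
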