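import Cfsg.Agent.Classical.Misc.PrimeOrbitSymp
import Cfsg.Agent.Classical.Misc.Spinor
import Mathlib

/-! Eigenvalue orbits of isometries whose order involves a prime with a long Frobenius orbit. -/

set_option autoImplicit false
set_option linter.style.haveILetI false
set_option linter.unusedSectionVars false

open Matrix Polynomial Cfsg.Lib.Classical.Refl

namespace Cfsg.Lib.PrimeGraphOrth

variable {F : Type*} [Field F] [Fintype F]

local notation "Kc" => AlgebraicClosure F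

/-- Eigenvalues of an isometry of a nondegenerate form are closed under inversion. -/
theorem isRoot_inv_form {K : Type*} [Field K] {ι : Type*} [Fintype ι] [DecidableEq ι] (A G : Matrix ι ι K)
    (hG : G.det ≠ 0) (hA : A * G * Aᵀ = G) (l : K) (hl0 : l ≠ 0) (hl : A.charpoly.IsRoot l) :
    A.charpoly.IsRoot l⁻¹ := by
  rw [Polynomial.IsRoot, Matrix.eval_charpoly] at hl ⊢
  have h1 : (Matrix.scalar ι l - Aᵀ).det = 0 := by
    rw [← hl, ← Matrix.det_transpose (Matrix.scalar ι l - A), Matrix.transpose_sub, Matrix.scalar_apply,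
      Matrix.diagonal_transpose]
  have h2 : A * G * (Matrix.scalar ι l - Aᵀ) = (-l) • ((Matrix.scalar ι l⁻¹ - A) * G) := by
    rw [Matrix.scalar_apply, Matrix.scalar_apply, ← Matrix.smul_one_eq_diagonal, ← Matrix.smul_one_eq_diagonal,
      Matrix.mul_sub, hA, Matrix.mul_smul, mul_one, Matrix.sub_mul, Matrix.smul_mul, one_mul, smul_sub, smul_smul,
      neg_mul, mul_inv_cancel₀ hl0, neg_one_smul, neg_smul, sub_neg_eq_add, neg_add_eq_sub]
  have h3 := congrArg Matrix.det h2
  rw [Matrix.det_mul, h1, mul_zero, Matrix.det_smul, Matrix.det_mul] at h3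
  rcases mul_eq_zero.1 h3.symm with h | h
  · exact absurd h (pow_ne_zero _ (neg_ne_zero.2 hl0))
  · exact (mul_eq_zero.1 h).resolve_right hG

theorem inv_roots_orth {ι : Type} [Fintype ι] [DecidableEq ι] (Q : QuadraticForm F (ι → F))
    (hQ : (QuadraticMap.polarBilin Q).Nondegenerate) (g : Cfsg.isometryGroup F (⇑Q)) (z : Kc) (hz : z ≠ 0)
    (h : ((mat Q g).map (algebraMap F Kc)).charpoly.IsRoot z) :
    ((mat Q g).map (algebraMap F Kc)).charpoly.IsRoot z⁻¹ := by
  set A := mat Q g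
  set G : Matrix ι ι F := LinearMap.BilinForm.toMatrix' (QuadraticMap.polarBilin Q)
  have hGd : G.det ≠ 0 := (LinearMap.BilinForm.nondegenerate_toMatrix'_iff.2 hQ).det_ne_zero
  have hAG : Aᵀ * G * A = G := by
    have e : LinearMap.BilinForm.comp (QuadraticMap.polarBilin Q : LinearMap.BilinForm F (ι → F)) (Matrix.toLin' A)
        (Matrix.toLin' A) = QuadraticMap.polarBilin Q := LinearMap.ext₂ fun x y => by
      show QuadraticMap.polar (⇑Q) (Matrix.toLin' A x) (Matrix.toLin' A y) = _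
      rw [Matrix.toLin'_apply, Matrix.toLin'_apply]
      exact polar_act Q g x y
    have := congrArg LinearMap.BilinForm.toMatrix' e
    rwa [LinearMap.BilinForm.toMatrix'_comp, LinearMap.toMatrix'_toLin'] at this
  rw [← Matrix.charpoly_transpose] at h ⊢
  refine isRoot_inv_form _ (G.map (algebraMap F Kc)) ?_ ?_ z hz h
  · rw [← RingHom.mapMatrix_apply, ← RingHom.map_det]
    exact (_root_.map_ne_zero _).2 hGd
  · rw [Matrix.transpose_transpose, ← Matrix.transpose_map, ← Matrix.map_mul, ← Matrix.map_mul, hAG]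

theorem inv_roots_symp {m : ℕ} (X : symplecticGroup (Fin m) F) (z : Kc) (hz : z ≠ 0)
    (h : (X.1.map (algebraMap F Kc)).charpoly.IsRoot z) : (X.1.map (algebraMap F Kc)).charpoly.IsRoot z⁻¹ := by
  refine PrimeOrbitSymp.isRoot_inv _ ?_ z hz h
  have hJ : (Matrix.J (Fin m) F).map (algebraMap F Kc) = Matrix.J (Fin m) Kc := by
    ext (i | i) (j | j) <;> simp [Matrix.J, Matrix.one_apply]
  rw [← hJ, ← Matrix.transpose_map, ← Matrix.map_mul, ← Matrix.map_mul, SymplecticGroup.mem_iff.1 X.2]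

variable {ι : Type*} [Fintype ι] [DecidableEq ι]

/-- The eigenvalues in an algebraic closure. -/
noncomputable def rootSet (M : Matrix ι ι F) : Finset Kc :=
  letI := Classical.decEq Kc
  (M.map (algebraMap F Kc)).charpoly.roots.toFinset

theorem mem_rootSet {M : Matrix ι ι F} {z : Kc} :
    z ∈ rootSet M ↔ (M.map (algebraMap F Kc)).charpoly.IsRoot z := by
  classical
  rw [rootSet, Multiset.mem_toFinset, Polynomial.mem_roots (Matrix.charpoly_monic _).ne_zero]

theorem card_rootSet (M : Matrix ι ι F) : (rootSet M).card ≤ Fintype.card ι := by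
  classical
  refine (Multiset.toFinset_card_le _).trans ?_
  rw [IsAlgClosed.card_roots_eq_natDegree, Matrix.charpoly_natDegree_eq_dim]

theorem pow_eq_one_of_mem {M : Matrix ι ι F} {N : ℕ} (hM : M ^ N = 1) {z : Kc} (hz : z ∈ rootSet M) : z ^ N = 1 := by
  classical
  rw [mem_rootSet] at hz
  let f : Module.End Kc (ι → Kc) := Matrix.toLinAlgEquiv' (M.map (algebraMap F Kc))
  have h1 : f.HasEigenvalue z := by
    rw [Module.End.hasEigenvalue_iff_isRoot_charpoly]
    have h2 : LinearMap.charpoly f = (M.map (algebraMap F Kc)).charpoly := Matrix.charpoly_toLin' _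
    rwa [h2]
  obtain ⟨v, hv⟩ := h1.exists_hasEigenvector
  have h3 := hv.pow_apply N
  rw [show f ^ N = Matrix.toLinAlgEquiv' ((M.map (algebraMap F Kc)) ^ N) from (map_pow _ _ N).symm,
    show M.map (algebraMap F Kc) = (algebraMap F Kc).mapMatrix M from rfl, ← map_pow, hM, map_one, map_one,
    Module.End.one_apply] at h3
  have h4 : (z ^ N - 1) • v = 0 := by rw [sub_smul, one_smul, ← h3, sub_self]
  exact sub_eq_zero.1 ((smul_eq_zero.1 h4).resolve_right hv.2)

theorem pow_card_mem {M : Matrix ι ι F} {z : Kc} (hz : z ∈ rootSet M) (i : ℕ) :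
    z ^ Fintype.card F ^ i ∈ rootSet M := by
  rw [mem_rootSet] at hz ⊢
  rw [Matrix.charpoly_map] at hz ⊢
  exact PrimeOrbit.isRoot_pow_card_pow _ _ hz i

/-- A semisimple matrix is killed by a power that kills its eigenvalues. -/
theorem exists_root_pow_ne (p : ℕ) [Fact p.Prime] [CharP F p] {M : Matrix ι ι F} {N j : ℕ} (hM : M ^ N = 1) (hN : (N : F) ≠ 0) (hj : M ^ j ≠ 1) :
    ∃ z ∈ rootSet M, z ^ j ≠ 1 := by
  classical
  by_contra hno
  push Not at hno
  set A := M.map (algebraMap F Kc) with hA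
  haveI : CharP Kc p := charP_of_injective_algebraMap (algebraMap F Kc).injective p
  haveI : Nonempty ι := by
    by_contra hne
    rw [not_nonempty_iff] at hne
    exact hj (Subsingleton.elim _ _)
  haveI : CharP (Matrix ι ι Kc) p := inferInstance
  set d := Fintype.card ι
  have hcard : A.charpoly.roots.card = d := by
    rw [IsAlgClosed.card_roots_eq_natDegree, Matrix.charpoly_natDegree_eq_dim]
  have hz : ((A ^ j) - 1) ^ d = 0 := by
    have h1 : A.charpoly = ((A.charpoly.roots).map fun x => X - C x).prod :=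
      (IsAlgClosed.splits A.charpoly).eq_prod_roots_of_monic A.charpoly_monic
    have h2 : A.charpoly ∣ (X ^ j - 1 : Kc[X]) ^ d := by
      rw [h1]
      refine (Multiset.prod_dvd_prod_of_dvd _ (fun _ => (X ^ j - 1 : Kc[X])) fun x hx => ?_).trans ?_
      · rw [dvd_iff_isRoot, IsRoot, eval_sub, eval_pow, eval_X, eval_one,
          hno x (by rwa [mem_rootSet, ← Polynomial.mem_roots A.charpoly_monic.ne_zero]), sub_self]
      · rw [Multiset.map_const', Multiset.prod_replicate, hcard]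
    obtain ⟨c, hc⟩ := h2
    have h3 := congrArg (Polynomial.aeval A) hc
    rw [map_pow, map_sub, map_pow, aeval_X, map_one, map_mul, Matrix.aeval_self_charpoly, zero_mul] at h3
    exact h3
  have hp : p.Prime := Fact.out
  have h5 := pow_eq_zero_of_le ((Nat.lt_pow_self hp.one_lt).le : d ≤ p ^ d) hz
  rw [sub_pow_char_pow_of_commute p d (Commute.one_right _), one_pow, sub_eq_zero] at h5
  have hinj : Function.Injective ((algebraMap F Kc).mapMatrix (m := ι)) :=
    Matrix.map_injective (algebraMap F Kc).injective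
  have h6 : (M ^ j) ^ p ^ d = 1 := hinj (by rw [map_pow, map_pow, map_one]; exact h5)
  have h7 : (M ^ j) ^ N = 1 := by rw [← pow_mul, mul_comm, pow_mul, hM, one_pow]
  have h8 := pow_gcd_eq_one.2 ⟨h6, h7⟩
  have hco : Nat.Coprime (p ^ d) N := Nat.Coprime.pow_left _ (hp.coprime_iff_not_dvd.2 fun h =>
    hN ((CharP.cast_eq_zero_iff F p N).2 h))
  rw [hco.gcd_eq_one, pow_one] at h8
  exact hj h8

variable {p : ℕ} [Fact p.Prime] [CharP F p]

/-- The orbit of an eigenvalue with a power of prime order, under Frobenius and inversion. -/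
theorem orbit (M : Matrix ι ι F)
    (hinv : ∀ z : Kc, z ≠ 0 → (M.map (algebraMap F Kc)).charpoly.IsRoot z →
      (M.map (algebraMap F Kc)).charpoly.IsRoot z⁻¹)
    {s j : ℕ} (hs : s.Prime) (hs2 : s ≠ 2) (hsp : s ≠ p) {z : Kc} (hz : z ∈ rootSet M) (hj : orderOf (z ^ j) = s)
    {k η : ℕ} (hk : k = orderOf ((Fintype.card F : ℕ) : ZMod s)) (hη : (Odd k ∧ η = k) ∨ (Even k ∧ 2 * η = k))
    (T : Finset Kc) (hT : ∀ w ∈ rootSet M, w ^ j ≠ 1 → w ∈ T) :
    2 * η ≤ T.card ∧ (T.card ≤ 2 * η →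
      (Even k → z ^ Fintype.card F ^ η = z⁻¹) ∧ (Odd k → z ^ Fintype.card F ^ η = z) ∧
      ∀ w ∈ T, w ∈ rootSet M ∧ w ^ j ≠ 1 ∧ ∃ i, w = z ^ Fintype.card F ^ i ∨ w = (z ^ Fintype.card F ^ i)⁻¹) := by
  classical
  haveI := Fact.mk hs
  obtain ⟨q, hq⟩ : ∃ q, q = Fintype.card F := ⟨_, rfl⟩
  rw [← hq] at hk ⊢
  obtain ⟨e, hp, hqe⟩ := FiniteField.card F p
  have hunit : IsUnit ((q : ℕ) : ZMod s) := by
    rw [isUnit_iff_ne_zero, Ne, ZMod.natCast_eq_zero_iff, hq, hqe]
    exact fun hd => hsp ((Nat.prime_dvd_prime_iff_eq hs hp).1 (hs.dvd_of_dvd_pow hd))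
  have hz0 : z ≠ 0 := fun h => by
    rcases Nat.eq_zero_or_pos j with h0 | h0
    · rw [h0, pow_zero, orderOf_one] at hj; exact hs.one_lt.ne hj
    · rw [h, zero_pow h0.ne', orderOf_zero] at hj; exact hs.pos.ne hj
  have hfin : IsOfFinOrder (z ^ j) := orderOf_pos_iff.1 (hj ▸ hs.pos)
  have hk0 : 0 < k := hk ▸ orderOf_pos_iff.2 (isOfFinOrder_iff_pow_eq_one.2
    ⟨s - 1, by have := hs.two_le; omega, ZMod.pow_card_sub_one_eq_one hunit.ne_zero⟩)
  have hqk : ((q : ℕ) : ZMod s) ^ k = 1 := by rw [hk, pow_orderOf_eq_one]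
  have inj : ∀ i l, z ^ q ^ i = z ^ q ^ l → i ≡ l [MOD k] := fun i l h => by
    rw [hk, hq]
    refine PrimeOrbit.orbit_inj (z ^ j) hj ?_ hfin (hq ▸ hunit)
    rw [← pow_mul, ← pow_mul, mul_comm j, mul_comm j, pow_mul, pow_mul, ← hq, h]
  have neg : ∀ i l, z ^ q ^ i = (z ^ q ^ l)⁻¹ → ((q : ℕ) : ZMod s) ^ i = -((q : ℕ) : ZMod s) ^ l := fun i l h => by
    rw [eq_neg_iff_add_eq_zero, ← Nat.cast_pow, ← Nat.cast_pow, ← Nat.cast_add, ZMod.natCast_eq_zero_iff, ← hj]
    refine orderOf_dvd_of_pow_eq_one ?_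
    rw [← pow_mul, mul_comm, pow_mul, pow_add, h, inv_mul_cancel₀ (pow_ne_zero _ hz0), one_pow]
  have hsneg : (-1 : ZMod s) ≠ 1 := fun h => by
    have h6 : ((2 : ℕ) : ZMod s) = 0 := by push_cast; linear_combination -h
    rw [ZMod.natCast_eq_zero_iff] at h6
    exact hs2 ((Nat.prime_dvd_prime_iff_eq hs Nat.prime_two).1 h6)
  have hmem : ∀ i, z ^ q ^ i ∈ T ∧ (z ^ q ^ i)⁻¹ ∈ T ∧
      (z ^ q ^ i ∈ rootSet M ∧ (z ^ q ^ i) ^ j ≠ 1) ∧ ((z ^ q ^ i)⁻¹ ∈ rootSet M ∧ ((z ^ q ^ i)⁻¹) ^ j ≠ 1) := by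
    intro i
    have h1 : z ^ q ^ i ∈ rootSet M := hq ▸ pow_card_mem hz i
    have h2 : (z ^ q ^ i) ^ j ≠ 1 := fun h => by
      rw [← pow_mul, mul_comm, pow_mul] at h
      have h' := orderOf_dvd_of_pow_eq_one h
      rw [hj] at h'
      exact hunit.ne_zero ((ZMod.natCast_eq_zero_iff _ _).2 (hs.dvd_of_dvd_pow h'))
    have h3 : (z ^ q ^ i)⁻¹ ∈ rootSet M := mem_rootSet.2 (hinv _ (pow_ne_zero _ hz0) (mem_rootSet.1 h1))
    have h4 : ((z ^ q ^ i)⁻¹) ^ j ≠ 1 := by rwa [inv_pow, ne_eq, inv_eq_one]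
    exact ⟨hT _ h1 h2, hT _ h3 h4, ⟨h1, h2⟩, h3, h4⟩
  have horb : ((Finset.range k).image fun i => z ^ q ^ i).card = k := by
    rw [Finset.card_image_of_injOn, Finset.card_range]
    intro i hi l hl h
    exact Nat.ModEq.eq_of_lt_of_lt (inj i l h) (Finset.mem_range.1 hi) (Finset.mem_range.1 hl)
  rcases hη with ⟨hodd, rfl⟩ | ⟨heven, hη⟩
  · -- `η = k` odd
    let S := ((Finset.range η).image fun i => z ^ q ^ i) ∪ ((Finset.range η).image fun i => z ^ q ^ i).image (·⁻¹)
    have hno : ∀ i l, z ^ q ^ i ≠ (z ^ q ^ l)⁻¹ := fun i l h => by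
      have h4 := PrimeOrbitSymp.exists_neg_one _ hk0 hqk (neg i l h)
      have h5 : ((-1 : ZMod s)) ^ η = 1 := by rw [← h4, ← pow_mul, mul_comm, pow_mul, hqk, one_pow]
      rw [hodd.neg_one_pow] at h5
      exact hsneg h5
    have hSc : S.card = 2 * η := by
      rw [Finset.card_union_of_disjoint, Finset.card_image_of_injective _ inv_injective, horb, two_mul]
      rw [Finset.disjoint_left]
      intro w hw hw'
      obtain ⟨v, hv, hvw⟩ := Finset.mem_image.1 hw'
      obtain ⟨i, -, rfl⟩ := Finset.mem_image.1 hw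
      obtain ⟨l, -, rfl⟩ := Finset.mem_image.1 hv
      exact hno i l hvw.symm
    have hST : S ⊆ T := fun w hw => by
      rcases Finset.mem_union.1 hw with h | h
      · obtain ⟨i, -, rfl⟩ := Finset.mem_image.1 h; exact (hmem i).1
      · obtain ⟨v, hv, rfl⟩ := Finset.mem_image.1 h
        obtain ⟨i, -, rfl⟩ := Finset.mem_image.1 hv; exact (hmem i).2.1
    refine ⟨hSc ▸ Finset.card_le_card hST, fun hle => ?_⟩
    have hS : S = T := Finset.eq_of_subset_of_card_le hST (hSc.symm ▸ hle)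
    refine ⟨fun he => absurd he (Nat.not_even_iff_odd.2 hodd), fun _ => ?_, fun w hw => ?_⟩
    · have h := (hmem η).1
      rw [← hS] at h
      rcases Finset.mem_union.1 h with h | h
      · obtain ⟨i, hi, h'⟩ := Finset.mem_image.1 h
        have hi0 := inj i η h'
        have : i % η = η % η := hi0
        rw [Nat.mod_self, Nat.mod_eq_of_lt (Finset.mem_range.1 hi)] at this
        rw [← h', this, pow_zero, pow_one]
      · obtain ⟨v, hv, hv'⟩ := Finset.mem_image.1 h
        obtain ⟨i, -, rfl⟩ := Finset.mem_image.1 hv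
        exact absurd hv'.symm (hno η i)
    · rw [← hS] at hw
      rcases Finset.mem_union.1 hw with h | h
      · obtain ⟨i, -, rfl⟩ := Finset.mem_image.1 h
        exact ⟨(hmem i).2.2.1.1, (hmem i).2.2.1.2, i, Or.inl rfl⟩
      · obtain ⟨v, hv, rfl⟩ := Finset.mem_image.1 h
        obtain ⟨i, -, rfl⟩ := Finset.mem_image.1 hv
        exact ⟨(hmem i).2.2.2.1, (hmem i).2.2.2.2, i, Or.inr rfl⟩
  · -- `k = 2η`
    let S := (Finset.range k).image fun i => z ^ q ^ i
    have hST : S ⊆ T := fun w hw => by obtain ⟨i, -, rfl⟩ := Finset.mem_image.1 hw; exact (hmem i).1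
    have hSc : S.card = 2 * η := horb.trans hη.symm
    refine ⟨hSc ▸ Finset.card_le_card hST, fun hle => ?_⟩
    have hS : S = T := Finset.eq_of_subset_of_card_le hST (hSc.symm ▸ hle)
    refine ⟨fun _ => ?_, fun ho => absurd heven (Nat.not_even_iff_odd.2 ho), fun w hw => ?_⟩
    · have h := (hmem 0).2.1
      rw [pow_zero, pow_one, ← hS] at h
      obtain ⟨i, hi, h'⟩ := Finset.mem_image.1 h
      have h1 : ((q : ℕ) : ZMod s) ^ i = -1 := by
        have := neg i 0 (by rw [pow_zero, pow_one]; exact h')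
        rwa [pow_zero] at this
      have h2 : ((q : ℕ) : ZMod s) ^ η = -1 := by
        refine (mul_self_eq_one_iff.1 (by rw [← pow_add, ← two_mul, hη, hqk])).resolve_left fun h => ?_
        have := Nat.le_of_dvd (by omega) (hk ▸ orderOf_dvd_of_pow_eq_one h)
        omega
      obtain ⟨u, hu⟩ := hunit
      have h3 : i ≡ η [MOD k] := by
        rw [hk, ← hu, orderOf_units]
        refine pow_eq_pow_iff_modEq.1 (Units.ext ?_)
        rw [Units.val_pow_eq_pow_val, Units.val_pow_eq_pow_val, hu, h1, h2]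
      rw [← Nat.ModEq.eq_of_lt_of_lt h3 (Finset.mem_range.1 hi) (by omega), h']
    · rw [← hS] at hw
      obtain ⟨i, -, rfl⟩ := Finset.mem_image.1 hw
      exact ⟨(hmem i).2.2.1.1, (hmem i).2.2.1.2, i, Or.inl rfl⟩

end Cfsg.Lib.PrimeGraphOrth
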