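import Cfsg.Agent.Known.PrimeGraphOrth.Transfer
import Cfsg.Agent.Known.OrthSpectrum.Odd
import Cfsg.Agent.Classical.Orth.Orders
import Mathlib

/-! The spinor value of minus one on the even part of an odd dimensional space. -/

set_option autoImplicit false
set_option linter.style.haveILetI false
set_option linter.unusedSectionVars false

open QuadraticMap Submodule Cfsg.Lib.Classical.Refl Cfsg.Lib.FormNormal Matrix

namespace Cfsg.Lib.PrimeGraphOrth

universe u

variable {F : Type u} [Field F] [Fintype F]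

/-- The condition deciding whether `2 * s` occurs when the orbit of `s` fills the space. -/
def Crit (q s n : ℕ) : Prop := ((q : ZMod s) ^ n = 1 ∧ q ^ n % 4 = 1) ∨ ((q : ZMod s) ^ n = -1 ∧ q ^ n % 4 = 3)

theorem odd_card (h2 : (2 : F) ≠ 0) : Odd (Fintype.card F) := Nat.odd_iff.2 (by
  rcases Nat.mod_two_eq_zero_or_one (Fintype.card F) with h | h
  · exfalso
    haveI : CharP F 2 := ringChar.eq_iff.1 (FiniteField.even_card_iff_char_two.2 h)
    exact h2 CharTwo.two_eq_zero
  · exact h)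

theorem card_moved_line {ι : Type} [Fintype ι] [DecidableEq ι] [DecidableEq F] (Q : QuadraticForm F (ι → F))
    (h2 : (2 : F) ≠ 0) {I W : Submodule F (ι → F)} {n : ℕ} (hn : 1 ≤ n) (hc : IsCompl I W)
    (horth : ∀ x ∈ I, ∀ y ∈ W, polar (⇑Q) x y = 0) (hI : Module.finrank F I = 2 * n)
    (hW : Module.finrank F W = 1) (hnd : (polarBilin (Q.comp I.subtype)).Nondegenerate)
    (D : Decomp (Q.comp I.subtype) (⊤ : Submodule F I)) (ε : ℤ)
    (hε : ε = if Module.finrank F D.K = 0 then 1 else -1) :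
    ∃ L : ℕ, Even L ∧ (Nat.card {x : ι → F // Q x = 1 ∧ x ∉ W} : ℤ) =
      ((Fintype.card F : ℤ) ^ n - ε) * ((Fintype.card F : ℤ) ^ n + ε * L) := by
  classical
  set q : ℤ := (Fintype.card F : ℤ) with hq
  have hI0 := OrthCount.card_zeros hn D hI
  have hI1 := OrthCount.card_one hn hnd D hI
  rw [← hε] at hI0 hI1
  have hε2 : ε * ε = 1 := by rw [hε]; split_ifs <;> norm_num
  have hIc : ∀ c : F, c ≠ 0 → (Nat.card {w : I // (Q.comp I.subtype) w = c} : ℤ) = q ^ (n - 1) * (q ^ n - ε) := by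
    intro c hc0
    obtain ⟨g, hg⟩ := similar_even (Q := Q.comp I.subtype) hI hnd hc0
    rw [Nat.card_congr (g.symm.toEquiv.subtypeEquiv (q := fun w => (Q.comp I.subtype) w = 1) fun w => ?_), hI1]
    have := hg (g.symm w)
    rw [LinearEquiv.apply_symm_apply] at this
    show _ ↔ (Q.comp I.subtype) (g.symm w) = 1
    rw [this]
    exact ⟨fun h => mul_left_cancel₀ hc0 (h.trans (mul_one c).symm), fun h => by rw [h, mul_one]⟩
  have hIz : (Nat.card {w : I // (Q.comp I.subtype) w = 0 ∧ w ≠ 0} : ℤ) = (q ^ n - ε) * (q ^ (n - 1) + ε) := by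
    have e : Nat.card {w : I // (Q.comp I.subtype) w = 0 ∧ w ≠ 0} + 1 =
        Nat.card {w : I // (Q.comp I.subtype) w = 0} := by
      rw [Nat.card_eq_fintype_card, Nat.card_eq_fintype_card, Fintype.card_subtype, Fintype.card_subtype,
        ← Finset.filter_filter, Finset.filter_ne']
      exact Finset.card_erase_add_one (Finset.mem_filter.2 ⟨Finset.mem_univ _, QuadraticMap.map_zero _⟩)
    have e' := congrArg (fun x : ℕ => (x : ℤ)) e
    push_cast at e'
    rw [hI0] at e'
    obtain ⟨k, rfl⟩ : ∃ k, n = k + 1 := ⟨n - 1, by omega⟩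
    rw [Nat.add_sub_cancel] at e' ⊢
    rw [show 2 * (k + 1) - 1 = (k + 1) + k by omega, pow_add] at e'
    linear_combination e' + hε2
  haveI := Fintype.ofFinite W
  let Φ := Submodule.prodEquivOfIsCompl I W hc
  have hΦ : ∀ p : I × W, Q (Φ p) = (Q.comp I.subtype) p.1 + Q p.2 := fun p => by
    rw [Submodule.coe_prodEquivOfIsCompl', QuadraticMap.map_add (f := Q), horth _ p.1.2 _ p.2.2, add_zero]
    rfl
  let e : {x : ι → F // Q x = 1 ∧ x ∉ W} ≃ Σ y : W, {w : I // (Q.comp I.subtype) w = 1 - Q y ∧ w ≠ 0} :=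
    { toFun := fun x => ⟨(Φ.symm x.1).2, ⟨(Φ.symm x.1).1, by
        have h := hΦ (Φ.symm x.1)
        rw [LinearEquiv.apply_symm_apply, x.2.1] at h
        refine ⟨eq_sub_of_add_eq h.symm, fun h0 => x.2.2 ?_⟩
        have h1 := LinearEquiv.apply_symm_apply Φ x.1
        rw [Submodule.coe_prodEquivOfIsCompl', h0] at h1
        rw [← h1]
        simp⟩⟩
      invFun := fun z => ⟨Φ (z.2.1, z.1), by rw [hΦ, z.2.2.1]; simp, fun hmem => z.2.2.2 (by
        have h1 : (z.2.1 : ι → F) ∈ W := by
          rw [Submodule.coe_prodEquivOfIsCompl'] at hmem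
          simpa using W.sub_mem hmem z.1.2
        exact Subtype.ext (Submodule.disjoint_def.1 hc.disjoint _ z.2.1.2 h1))⟩
      left_inv := fun x => Subtype.ext (Φ.apply_symm_apply x.1)
      right_inv := fun z => by
        refine Sigma.subtype_ext ?_ ?_ <;> simp }
  let L := (Finset.univ.filter fun y : W => Q y = 1).card
  refine ⟨L, ?_, ?_⟩
  · let S := {y : W // Q y = 1}
    let σ : Equiv.Perm S :=
      { toFun := fun w => ⟨-w.1, by rw [Submodule.coe_neg, QuadraticMap.map_neg]; exact w.2⟩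
        invFun := fun w => ⟨-w.1, by rw [Submodule.coe_neg, QuadraticMap.map_neg]; exact w.2⟩
        left_inv := fun w => Subtype.ext (neg_neg _)
        right_inv := fun w => Subtype.ext (neg_neg _) }
    have hfix : σ.support = Finset.univ := by
      ext w
      simp only [Equiv.Perm.mem_support, Finset.mem_univ, iff_true]
      intro h
      have h1 : -(w.1.1) = w.1.1 := congrArg (fun z : S => z.1.1) h
      have h0 : (2 : F) • w.1.1 = 0 := by
        rw [two_smul]
        nth_rw 1 [← h1]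
        exact neg_add_cancel _
      have h3 := w.2
      rw [(smul_eq_zero.1 h0).resolve_left h2, QuadraticMap.map_zero] at h3
      exact zero_ne_one h3
    have h := Equiv.Perm.two_dvd_card_support (σ := σ) (Equiv.ext fun w => Subtype.ext (neg_neg _))
    rw [hfix, Finset.card_univ, Fintype.card_subtype] at h
    exact even_iff_two_dvd.mpr h
  · rw [Nat.card_congr e, Nat.card_sigma, Nat.cast_sum]
    have hterm : ∀ y : W, (Nat.card {w : I // (Q.comp I.subtype) w = 1 - Q y ∧ w ≠ 0} : ℤ) =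
        q ^ (n - 1) * (q ^ n - ε) + (if Q y = 1 then ε * (q ^ n - ε) else 0) := by
      intro y
      by_cases hy : Q y = 1
      · rw [if_pos hy, hy, sub_self, hIz]
        ring
      · rw [if_neg hy, add_zero, ← hIc (1 - Q y) (sub_ne_zero.2 (Ne.symm hy))]
        congr 1
        refine Nat.card_congr (Equiv.subtypeEquivRight fun w => ⟨And.left, fun h => ⟨h, ?_⟩⟩)
        rintro rfl
        rw [QuadraticMap.map_zero] at h
        exact hy (sub_eq_zero.1 h.symm).symm
    rw [Finset.sum_congr rfl fun y _ => hterm y, Finset.sum_add_distrib, Finset.sum_const, Finset.card_univ,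
      ← Finset.sum_filter, Finset.sum_const, nsmul_eq_mul, nsmul_eq_mul, Module.card_eq_pow_finrank (K := F) (V := W),
      hW]
    obtain ⟨k, rfl⟩ : ∃ k, n = k + 1 := ⟨n - 1, by omega⟩
    rw [Nat.add_sub_cancel]
    push_cast
    ring

/-- The spinor value of the involution that is minus one on a space with a fixed point free `s` element. -/
theorem spin_neg [DecidableEq F] {ι : Type} [Fintype ι] [DecidableEq ι] (Q : QuadraticForm F (ι → F))
    (h2 : (2 : F) ≠ 0) (hQ : (polarBilin Q).Nondegenerate) {n s : ℕ} (hn : 1 ≤ n) [Fact s.Prime] (hs2 : s ≠ 2)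
    (hqs : (Fintype.card F : ZMod s) ≠ 0) (g : Cfsg.isometryGroup F (⇑Q)) (I W : Submodule F (ι → F))
    (hc : IsCompl I W) (hI : Module.finrank F I = 2 * n) (hW : Module.finrank F W = 1)
    (hgI : ∀ x ∈ I, mat Q g *ᵥ x = -x) (hgW : ∀ x ∈ W, mat Q g *ᵥ x = x) (a : Module.End F (ι → F))
    (ha : ∀ v, Q (a v) = Q v) (has : a ^ s = 1) (haI : ∀ x ∈ I, a x ∈ I) (hfree : ∀ x ∈ I, a x = x → x = 0) :
    spin Q g = 1 ↔ Crit (Fintype.card F) s n := by
  classical
  have horth : ∀ x ∈ I, ∀ y ∈ W, polar (⇑Q) x y = 0 := fun x hx y hy => by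
    have h := polar_act Q g x y
    rw [hgI x hx, hgW y hy, QuadraticMap.polar_neg_left] at h
    have : (2 : F) * polar (⇑Q) x y = 0 := by linear_combination -h
    exact (mul_eq_zero.1 this).resolve_left h2
  have hnd : (polarBilin (Q.comp I.subtype)).Nondegenerate := by
    have hl : ∀ x : I, (∀ y : I, polar (⇑(Q.comp I.subtype)) x y = 0) → x = 0 := fun x hx => by
      refine Subtype.ext (hQ.1 x.1 fun y => ?_)
      obtain ⟨u, hu, v, hv, rfl⟩ := Submodule.mem_sup.1 (show y ∈ I ⊔ W by rw [hc.sup_eq_top]; trivial)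
      show polar (⇑Q) x.1 (u + v) = 0
      rw [QuadraticMap.polar_add_right, horth _ x.2 _ hv, add_zero]
      have := hx ⟨u, hu⟩
      simpa [polar] using this
    exact ⟨hl, fun x hx => hl x fun y => by rw [QuadraticMap.polar_comm]; exact hx y⟩
  obtain ⟨D⟩ := exists_decomp (Q.comp I.subtype) _ ⊤ rfl (nd_top _ hnd)
  let aI : Module.End F I := a.restrict haI
  have hfs := OrthCount.free_sign (r := s) (w := n) hnd D hI hqs aI (fun w => ha w.1)
    (LinearMap.ext fun w => Subtype.ext (by rw [restrict_pow_apply, has]; rfl))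
    (fun w hw => Subtype.ext (hfree w.1 w.2 (congrArg Subtype.val hw)))
  set ε : ℤ := if Module.finrank F D.K = 0 then 1 else -1 with hε
  obtain ⟨L, hL, hcnt⟩ := card_moved_line Q h2 hn hc horth hI hW hnd D ε hε
  set σ := spherePerm Q g with hσ
  have hσv : ∀ x : {x : ι → F // Q x = 1}, (σ x).1 = mat Q g *ᵥ x.1 := fun x => rfl
  have hmoved : ∀ x : {x : ι → F // Q x = 1}, σ x ≠ x ↔ x.1 ∉ W := fun x => by
    rw [Ne, Subtype.ext_iff, hσv]
    refine not_congr ⟨fun e => ?_, fun e => hgW _ e⟩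
    obtain ⟨u, hu, v, hv, huv⟩ := Submodule.mem_sup.1 (show x.1 ∈ I ⊔ W by rw [hc.sup_eq_top]; trivial)
    rw [← huv, Matrix.mulVec_add, hgI u hu, hgW v hv, add_left_inj] at e
    have h0 : (2 : F) • u = 0 := by
      rw [two_smul]
      nth_rw 1 [← e]
      exact neg_add_cancel _
    rw [← huv, (smul_eq_zero.1 h0).resolve_left h2, zero_add]
    exact hv
  have hσ2 : ∀ x, σ (σ x) = x := fun x => Subtype.ext (by
    rw [hσv, hσv]
    obtain ⟨u, hu, v, hv, huv⟩ := Submodule.mem_sup.1 (show x.1 ∈ I ⊔ W by rw [hc.sup_eq_top]; trivial)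
    rw [← huv, Matrix.mulVec_add, hgI u hu, hgW v hv, Matrix.mulVec_add, Matrix.mulVec_neg, hgI u hu, hgW v hv,
      neg_neg])
  obtain ⟨c, hcard, hsign⟩ := OrthSpectrum.sign_of_semiregular σ (N := 2) (by rw [pow_two]; exact Equiv.ext hσ2)
    even_two (fun x hx k hk => by
      rcases Nat.even_or_odd' k with ⟨j, rfl | rfl⟩
      · exact Dvd.intro j rfl
      · exfalso
        refine hx ?_
        have h1 : σ ^ 2 = 1 := by rw [pow_two]; exact Equiv.ext hσ2
        rwa [pow_succ, pow_mul, h1, one_pow, one_mul] at hk)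
  have hsupp : σ.support.card = Nat.card {x : ι → F // Q x = 1 ∧ x ∉ W} := by
    rw [← Nat.card_congr (Equiv.subtypeSubtypeEquivSubtypeInter (fun x : ι → F => Q x = 1) (fun x => x ∉ W)),
      Nat.card_eq_fintype_card, Fintype.card_subtype]
    congr 1
    ext x
    simp only [Equiv.Perm.mem_support, Finset.mem_filter, Finset.mem_univ, true_and]
    exact hmoved x
  rw [← hsupp, hcard] at hcnt
  push_cast at hcnt
  obtain ⟨N, hN⟩ : ∃ N : ℕ, N = Fintype.card F ^ n := ⟨_, rfl⟩
  have hNodd : Odd N := hN ▸ (odd_card h2).pow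
  have hNZ : (Fintype.card F : ℤ) ^ n = (N : ℤ) := by rw [hN]; push_cast; rfl
  rw [hNZ] at hcnt
  have hspin : spin Q g = 1 ↔ Even c := by
    show Equiv.Perm.sign σ = 1 ↔ _
    rw [hsign]
    constructor
    · intro h
      by_contra hcc
      rw [(Nat.not_even_iff_odd.1 hcc).neg_one_pow] at h
      exact absurd h (by decide)
    · exact fun h => h.neg_one_pow
  obtain ⟨u, hu⟩ : ∃ u : ℤ, (N : ℤ) - ε = 2 * u := by
    obtain ⟨b, hb⟩ := hNodd
    rw [hε]
    split_ifs
    · exact ⟨b, by rw [hb]; push_cast; ring⟩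
    · exact ⟨b + 1, by rw [hb]; push_cast; ring⟩
  have hodd' : Odd ((N : ℤ) + ε * L) := by
    refine Odd.add_even (by exact_mod_cast hNodd) (Even.mul_left ?_ _)
    exact_mod_cast hL
  have hcu : Even c ↔ Even u := by
    have h : (c : ℤ) = u * ((N : ℤ) + ε * L) := by
      refine mul_left_cancel₀ (two_ne_zero' ℤ) ?_
      rw [← mul_assoc, ← hu]
      exact hcnt
    rw [← Int.even_coe_nat, h, Int.even_mul, or_iff_left (Int.not_even_iff_odd.2 hodd')]
  rw [hspin, hcu, Crit, ← hN, hfs]
  have hne : (-1 : ZMod s) ≠ 1 := fun h => by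
    have h6 : ((2 : ℕ) : ZMod s) = 0 := by push_cast; linear_combination -h
    rw [ZMod.natCast_eq_zero_iff] at h6
    exact hs2 ((Nat.prime_dvd_prime_iff_eq Fact.out Nat.prime_two).1 h6)
  rw [hε] at hu
  split_ifs with hK
  · rw [if_pos hK] at hu
    constructor
    · rintro ⟨b, hb⟩; exact Or.inl ⟨rfl, by omega⟩
    · rintro (⟨-, h⟩ | ⟨h, -⟩)
      · exact Int.even_iff.2 (by omega)
      · exact absurd h.symm hne
  · rw [if_neg hK] at hu
    constructor
    · rintro ⟨b, hb⟩; exact Or.inr ⟨rfl, by omega⟩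
    · rintro (⟨h, -⟩ | ⟨-, h⟩)
      · exact absurd h hne
      · exact Int.even_iff.2 (by omega)

end Cfsg.Lib.PrimeGraphOrth
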