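import Cfsg.Agent.Known.PrimeGraphOrth.Roots
import Cfsg.Agent.Known.PrimeGraphOrth.Spin
import Cfsg.Agent.Known.SympOrders.Spectrum
import Cfsg.Agent.S2469
import Mathlib

/-! The neighbours of `2` in the prime graph of `PSp (2n, q)`, `q` odd. -/

set_option autoImplicit false
set_option linter.style.haveILetI false
set_option linter.unusedSectionVars false

open Matrix Polynomial

namespace Cfsg.Lib.PrimeGraphOrth

universe u

variable {F : Type u} [Field F] [Fintype F] {p : ℕ} [Fact p.Prime] [CharP F p]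

local notation "Kc" => AlgebraicClosure F
local notation "π[" m "]" => QuotientGroup.mk' (Subgroup.center (Matrix.symplecticGroup (Fin m) F))

/-- A polynomial vanishing at all eigenvalues, all simple, kills the matrix. -/
theorem aeval_eq_zero_of_roots {ι : Type*} [Fintype ι] [DecidableEq ι] (M : Matrix ι ι F)
    (hc : (rootSet M).card = Fintype.card ι) (h : F[X]) (hroots : ∀ w ∈ rootSet M, aeval w h = 0) :
    aeval M h = 0 := by
  classical
  rcases eq_or_ne h 0 with rfl | h0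
  · rw [map_zero]
  set A := M.map (algebraMap F Kc)
  have hcard : A.charpoly.roots.card = Fintype.card ι := by
    rw [IsAlgClosed.card_roots_eq_natDegree, Matrix.charpoly_natDegree_eq_dim]
  have hnod : A.charpoly.roots.Nodup := by
    rw [← Multiset.toFinset_card_eq_card_iff_nodup, hcard]
    convert hc using 1
    simp [rootSet, A]
  have hmap0 : h.map (algebraMap F Kc) ≠ 0 := Polynomial.map_ne_zero h0
  have hle : A.charpoly.roots ≤ (h.map (algebraMap F Kc)).roots := (Multiset.le_iff_subset hnod).2 fun w hw => by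
    rw [Polynomial.mem_roots hmap0, Polynomial.IsRoot, Polynomial.eval_map_algebraMap]
    exact hroots w (mem_rootSet.2 ((Polynomial.mem_roots A.charpoly_monic.ne_zero).1 hw))
  have hdvd : A.charpoly ∣ h.map (algebraMap F Kc) := by
    rw [(IsAlgClosed.splits A.charpoly).eq_prod_roots_of_monic A.charpoly_monic]
    exact (Multiset.prod_dvd_prod_of_le (Multiset.map_le_map hle)).trans (prod_multiset_X_sub_C_dvd _)
  have hdvd' : M.charpoly ∣ h := (Polynomial.map_dvd_map' (algebraMap F Kc)).1 (by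
    rwa [← Matrix.charpoly_map])
  obtain ⟨c, rfl⟩ := hdvd'
  rw [map_mul, Matrix.aeval_self_charpoly, zero_mul]

/-- A symplectic element of order dividing `4 s` with a long orbit. -/
theorem sp_long {n s : ℕ} (hs : s.Prime) (hs2 : s ≠ 2) (hsp : s ≠ p) (h2 : (2 : F) ≠ 0) {k η : ℕ}
    (hk : k = orderOf ((Fintype.card F : ℕ) : ZMod s)) (hη : (Odd k ∧ η = k) ∨ (Even k ∧ 2 * η = k))
    (X : symplecticGroup (Fin n) F) (hX : X ^ (4 * s) = 1) (hX4 : X ^ 4 ≠ 1) (hge : n ≤ η) :
    η = n ∧ ∃ z : Kc, z ^ (4 * s) = 1 ∧ z ^ 4 ≠ 1 ∧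
      (z ^ Fintype.card F ^ η = z ∨ z ^ Fintype.card F ^ η = z⁻¹) ∧
      ∀ (j : ℕ) (c : F), (c = 1 ∨ c = -1) → z ^ j = algebraMap F Kc c → (X : Matrix (Fin n ⊕ Fin n) (Fin n ⊕ Fin n) F) ^ j = c • 1 := by
  classical
  obtain ⟨M, hM⟩ : ∃ M : Matrix (Fin n ⊕ Fin n) (Fin n ⊕ Fin n) F, M = X.1 := ⟨_, rfl⟩
  rw [← hM]
  have hMN : M ^ (4 * s) = 1 := by rw [hM, ← SubmonoidClass.coe_pow, hX]; rfl
  have hM4 : M ^ 4 ≠ 1 := fun h => hX4 (Subtype.ext (by rw [SubmonoidClass.coe_pow]; rw [hM] at h; exact h))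
  have hN : ((4 * s : ℕ) : F) ≠ 0 := by
    have hps : (s : F) ≠ 0 := fun h => hsp ((Nat.prime_dvd_prime_iff_eq Fact.out hs).1 ((CharP.cast_eq_zero_iff F p s).1 h)).symm
    push_cast
    refine mul_ne_zero ?_ hps
    have h4 : (4 : F) = 2 * 2 := by norm_num
    rw [h4]
    exact mul_ne_zero h2 h2
  obtain ⟨z, hz, hz4⟩ := exists_root_pow_ne p hMN hN hM4
  have hzN := pow_eq_one_of_mem hMN hz
  haveI := Fact.mk hs
  have hj : orderOf (z ^ 4) = s := orderOf_eq_prime (by rw [← pow_mul]; exact hzN) hz4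
  obtain ⟨h1, h2'⟩ := orbit M (fun w hw => hM ▸ inv_roots_symp X w hw) hs hs2 hsp hz hj hk hη
    ((rootSet M).filter fun w => w ^ 4 ≠ 1) (fun w hw hw4 => Finset.mem_filter.2 ⟨hw, hw4⟩)
  have hle : ((rootSet M).filter fun w => w ^ 4 ≠ 1).card ≤ (rootSet M).card := Finset.card_filter_le _ _
  have hle2 := card_rootSet M
  have hι : Fintype.card (Fin n ⊕ Fin n) = 2 * n := by simp [two_mul]
  have hηn : η = n := by omega
  obtain ⟨he, ho, hall⟩ := h2' (by omega)
  refine ⟨hηn, z, hzN, hz4, ?_, fun j c hc hzj => ?_⟩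
  · rcases Nat.even_or_odd k with e | o
    · exact Or.inr (he e)
    · exact Or.inl (ho o)
  · have hfull : (rootSet M).filter (fun w => w ^ 4 ≠ 1) = rootSet M :=
      Finset.eq_of_subset_of_card_le (Finset.filter_subset _ _) (by omega)
    have h0 := aeval_eq_zero_of_roots M (by omega) (Polynomial.X ^ j - Polynomial.C c) (fun w hw => ?_)
    · rw [map_sub, map_pow, aeval_X, aeval_C, sub_eq_zero, Algebra.algebraMap_eq_smul_one] at h0
      exact h0
    · obtain ⟨-, -, i, hi⟩ := hall w (hfull.symm ▸ hw)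
      have hqodd := (odd_card h2).pow (n := i)
      have hfix : (algebraMap F Kc c) ^ Fintype.card F ^ i = algebraMap F Kc c ∧
          (algebraMap F Kc c)⁻¹ = algebraMap F Kc c := by
        rcases hc with rfl | rfl
        · simp
        · rw [map_neg, map_one, hqodd.neg_one_pow]
          exact ⟨rfl, by norm_num⟩
      rw [map_sub, map_pow, aeval_X, aeval_C, sub_eq_zero]
      rcases hi with rfl | rfl
      · rw [← pow_mul, mul_comm, pow_mul, hzj, hfix.1]
      · rw [inv_pow, ← pow_mul, mul_comm, pow_mul, hzj, hfix.1, hfix.2]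

/-- `2 * s` in `PSp (2n)`. -/
theorem psp_two {n s : ℕ} (hn : 2 ≤ n) (hs : s.Prime) (hs2 : s ≠ 2) (hsp : s ≠ p) (h2 : (2 : F) ≠ 0) {k η : ℕ}
    (hk : k = orderOf ((Fintype.card F : ℕ) : ZMod s)) (hη : (Odd k ∧ η = k) ∨ (Even k ∧ 2 * η = k)) :
    2 * s ∈ Set.range (orderOf : Cfsg.PSp n F → ℕ) ↔ η < n ∨ (η = n ∧ Crit (Fintype.card F) s n) := by
  classical
  haveI := Fact.mk hs
  have hp : p.Prime := Fact.out
  obtain ⟨q, hq⟩ : ∃ q, q = Fintype.card F := ⟨_, rfl⟩
  have hqodd : Odd q := hq ▸ odd_card h2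
  have hqpos : 1 ≤ q := hqodd.pos
  have hne : (-1 : ZMod s) ≠ 1 := fun h => by
    have h6 : ((2 : ℕ) : ZMod s) = 0 := by push_cast; linear_combination -h
    rw [ZMod.natCast_eq_zero_iff] at h6
    exact hs2 ((Nat.prime_dvd_prime_iff_eq hs Nat.prime_two).1 h6)
  have hmk : ∀ (X : Matrix.symplecticGroup (Fin n) F) (i : ℕ),
      (π[n] X) ^ i = 1 ↔ X ^ i ∈ Subgroup.center _ := fun X i => by
    rw [← map_pow, QuotientGroup.mk'_apply, QuotientGroup.eq_one_iff]
  have hneg : ∀ m : ℕ, ∃ ν : Matrix.symplecticGroup (Fin m) F,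
      (ν : Matrix (Fin m ⊕ Fin m) (Fin m ⊕ Fin m) F) = -1 := fun m =>
    ⟨⟨-1, SymplecticGroup.neg_mem (one_mem _)⟩, rfl⟩
  constructor
  · rintro ⟨x, hx⟩
    by_contra hcon
    push Not at hcon
    obtain ⟨X, rfl⟩ := QuotientGroup.mk'_surjective _ x
    have h2s : X ^ (2 * s) ∈ Subgroup.center _ := (hmk X _).1 (hx ▸ pow_orderOf_eq_one _)
    have hX : X ^ (4 * s) = 1 := by
      rw [show 4 * s = 2 * s * 2 by ring, pow_mul]
      exact SympOrders.center_sq (by omega) h2s
    have hX4 : X ^ 4 ≠ 1 := fun h => by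
      have h1 := orderOf_dvd_of_pow_eq_one (show (π[n] X) ^ 4 = 1 by rw [← map_pow, h, map_one])
      rw [hx, show 4 = 2 * 2 from rfl] at h1
      exact hs2 ((Nat.prime_dvd_prime_iff_eq hs Nat.prime_two).1 (Nat.dvd_of_mul_dvd_mul_left two_pos h1))
    obtain ⟨hηn, z, hz, hz4, hzq, hsc⟩ := sp_long hs hs2 hsp h2 hk hη X hX hX4 hcon.1
    have hnocenter : ∀ c : F, (c = 1 ∨ c = -1) → z ^ s ≠ algebraMap F Kc c := fun c hc h => by
      have h1 := hsc s c hc h
      have h2' : (π[n] X) ^ s = 1 := (hmk X s).2 (Subgroup.mem_center_iff.2 fun y => Subtype.ext (by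
        simp only [Submonoid.coe_mul, SubmonoidClass.coe_pow, h1]
        rw [Matrix.mul_smul, Matrix.smul_mul, mul_one, one_mul]))
      have h3 := Nat.le_of_dvd hs.pos (hx ▸ orderOf_dvd_of_pow_eq_one h2')
      have := hs.pos
      omega
    have hzs : z ^ (2 * s) = -1 := by
      refine (mul_self_eq_one_iff.1 (by rw [← pow_add, show 2 * s + 2 * s = 4 * s by ring]; exact hz)).resolve_left fun h => ?_
      rw [mul_comm, pow_mul, sq] at h
      rcases mul_self_eq_one_iff.1 h with e | e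
      · exact hnocenter 1 (Or.inl rfl) (by rw [e, map_one])
      · exact hnocenter (-1) (Or.inr rfl) (by rw [e, map_neg, map_one])
    have hord : 4 * s ∣ orderOf z := by
      have hd : orderOf z ∣ 4 * s := orderOf_dvd_of_pow_eq_one hz
      have hsd : s ∣ orderOf z := by
        by_contra h
        exact hz4 (orderOf_dvd_iff_pow_eq_one.1
          ((hs.coprime_iff_not_dvd.2 h).symm.dvd_of_dvd_mul_right hd))
      obtain ⟨d, hd'⟩ := hsd
      rw [hd', mul_comm 4 s] at hd
      have hd4 : d ∣ 4 := Nat.dvd_of_mul_dvd_mul_left hs.pos hd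
      have hd2 : ¬ d ∣ 2 := fun h => by
        have : z ^ (2 * s) = 1 := orderOf_dvd_iff_pow_eq_one.1 (by
          rw [hd', mul_comm 2 s]; exact Nat.mul_dvd_mul_left _ h)
        rw [hzs] at this
        have h20 : ((2 : F) : F) = 0 := by
          refine (algebraMap F Kc).injective ?_
          rw [map_ofNat, map_zero]
          linear_combination -this
        exact h2 h20
      have : d = 4 := by
        have := Nat.le_of_dvd (by norm_num) hd4
        interval_cases d <;> omega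
      rw [hd', this, mul_comm]
    refine hcon.2 hηn ?_
    rw [hηn, ← hq] at hzq
    rw [← hq]
    have hz0 : z ≠ 0 := fun h => by
      rw [h, zero_pow (by have := hs.pos; omega)] at hz
      exact zero_ne_one hz
    have hqn : 1 ≤ q ^ n := Nat.one_le_pow _ _ hqpos
    rcases hzq with h | h
    · have hd := hord.trans (orderOf_dvd_of_pow_eq_one (show z ^ (q ^ n - 1) = 1 by
        refine mul_right_cancel₀ hz0 ?_
        rw [← pow_succ, Nat.sub_add_cancel hqn, h, one_mul]))
      refine Or.inl ⟨?_, ?_⟩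
      · have h1 := (ZMod.natCast_eq_zero_iff _ s).2 ((dvd_mul_left s 4).trans hd)
        rw [Nat.cast_sub hqn, sub_eq_zero, Nat.cast_pow, Nat.cast_one] at h1
        exact h1
      · obtain ⟨c, hc⟩ := (dvd_mul_right 4 s).trans hd
        omega
    · have hd := hord.trans (orderOf_dvd_of_pow_eq_one (show z ^ (q ^ n + 1) = 1 by
        rw [pow_succ, h, inv_mul_cancel₀ hz0]))
      refine Or.inr ⟨?_, ?_⟩
      · have h1 := (ZMod.natCast_eq_zero_iff _ s).2 ((dvd_mul_left s 4).trans hd)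
        rw [Nat.cast_add, Nat.cast_pow, Nat.cast_one, add_eq_zero_iff_eq_neg] at h1
        exact h1
      · obtain ⟨c, hc⟩ := (dvd_mul_right 4 s).trans hd
        omega
  · intro h
    have hk0 : 0 < k := hk ▸ orderOf_pos_iff.2 (isOfFinOrder_iff_pow_eq_one.2 ⟨s - 1, by have := hs.two_le; omega,
      ZMod.pow_card_sub_one_eq_one fun h0 => by
        rw [ZMod.natCast_eq_zero_iff] at h0
        obtain ⟨e, -, he⟩ := FiniteField.card F p
        rw [he] at h0
        exact hsp ((Nat.prime_dvd_prime_iff_eq hs hp).1 (hs.dvd_of_dvd_pow h0))⟩)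
    rcases h with hlt | ⟨hηn, hcr⟩
    · obtain ⟨b, rfl⟩ : ∃ b, n = η + b := ⟨n - η, by omega⟩
      have hη1 : 1 ≤ η := by rcases hη with ⟨-, h⟩ | ⟨he, h⟩ <;> omega
      obtain ⟨f1, f2⟩ := Cfsg.Agent.S2469.half_facts hqpos (hq ▸ hk) hk0 hη
      obtain ⟨x, hx⟩ := Cfsg.Agent.S2469.exists_sp_element (F := F) p η η hη1 le_rfl s
        ((Nat.even_or_odd k).elim (fun h => Or.inr (hq ▸ (f2 h).2)) (fun h => Or.inl (hq ▸ f1 h)))
      obtain ⟨ν, hν⟩ := hneg η
      have hν2 : orderOf ν = 2 := orderOf_eq_prime (Subtype.ext (by rw [SubmonoidClass.coe_pow, hν]; simp)) fun h => by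
        have h1 := congrArg (fun y : Matrix.symplecticGroup (Fin η) F =>
          (y : Matrix (Fin η ⊕ Fin η) (Fin η ⊕ Fin η) F) (Sum.inl ⟨0, hη1⟩) (Sum.inl ⟨0, hη1⟩)) h
        simp only [hν, OneMemClass.coe_one, Matrix.neg_apply, Matrix.one_apply_eq] at h1
        exact h2 (by linear_combination -h1)
      have hcom : Commute ν x := Subtype.ext (by rw [Submonoid.coe_mul, Submonoid.coe_mul, hν]; simp)
      refine ⟨π[η + b] (PrimeOrbitSymp.blockSp η b (ν * x, 1)), ?_⟩
      rw [SympOrders.orderOf_block (p := p) (by omega) (ν * x) 1 (k := 0) (one_pow _), orderOf_one,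
        Nat.lcm_one_right, hcom.orderOf_mul_eq_mul_orderOf_of_coprime (by
          rw [hν2, hx]; exact (Nat.coprime_primes Nat.prime_two hs).2 hs2.symm), hν2, hx]
    · rw [← hq] at hcr
      have h4s : Nat.Coprime 4 s := Nat.Coprime.pow_left 2 ((Nat.coprime_primes Nat.prime_two hs).2 hs2.symm)
      have hqn : 1 ≤ q ^ n := Nat.one_le_pow _ _ hqpos
      obtain ⟨X, hX⟩ := Cfsg.Agent.S2469.exists_sp_element (F := F) p n n (by omega) le_rfl (4 * s) (by
        rw [← hq]
        rcases hcr with ⟨h1, h2'⟩ | ⟨h1, h2'⟩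
        · refine Or.inl (h4s.mul_dvd_of_dvd_of_dvd (by omega) ?_)
          rw [← ZMod.natCast_eq_zero_iff, Nat.cast_sub hqn, Nat.cast_pow, Nat.cast_one, h1, sub_self]
        · refine Or.inr (h4s.mul_dvd_of_dvd_of_dvd (by omega) ?_)
          rw [← ZMod.natCast_eq_zero_iff, Nat.cast_add, Nat.cast_pow, Nat.cast_one, h1, neg_add_cancel])
      have hX4 : X ^ 4 ≠ 1 := fun h => by
        have := Nat.le_of_dvd (by norm_num) (hX ▸ orderOf_dvd_of_pow_eq_one h)
        have := hs.two_le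
        omega
      obtain ⟨-, z, hz, -, -, hsc⟩ := sp_long hs hs2 hsp h2 hk hη X (hX ▸ pow_orderOf_eq_one X) hX4 (by omega)
      have hzs : z ^ (2 * s) = -1 := by
        refine (mul_self_eq_one_iff.1 (by rw [← pow_add, show 2 * s + 2 * s = 4 * s by ring]; exact hz)).resolve_left fun h => ?_
        have h1 := hsc (2 * s) 1 (Or.inl rfl) (by rw [h, map_one])
        rw [one_smul] at h1
        have := Nat.le_of_dvd (by have := hs.pos; omega)
          (hX ▸ orderOf_dvd_of_pow_eq_one (x := X) (n := 2 * s) (Subtype.ext (by rw [SubmonoidClass.coe_pow]; exact h1)))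
        have := hs.pos
        omega
      have hcen : X ^ (2 * s) ∈ Subgroup.center _ := Subgroup.mem_center_iff.2 fun y => Subtype.ext (by
        simp only [Submonoid.coe_mul, SubmonoidClass.coe_pow, hsc (2 * s) (-1) (Or.inr rfl) (by rw [hzs, map_neg, map_one])]
        rw [Matrix.mul_smul, Matrix.smul_mul, mul_one, one_mul])
      refine ⟨π[n] X, Nat.dvd_antisymm (orderOf_dvd_of_pow_eq_one ((hmk X _).2 hcen)) ?_⟩
      have h1 := SympOrders.orderOf_dvd_two_mul (show 1 ≤ n by omega) X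
      rw [hX, show 4 * s = 2 * (2 * s) by ring] at h1
      exact Nat.dvd_of_mul_dvd_mul_left two_pos h1

/-- `2 * p` in `PSp (2n)`. -/
theorem psp_two_char {n : ℕ} (hn : 2 ≤ n) (h2 : (2 : F) ≠ 0) :
    2 * p ∈ Set.range (orderOf : Cfsg.PSp n F → ℕ) := by
  classical
  have hp : p.Prime := Fact.out
  obtain ⟨b, rfl⟩ : ∃ b, n = 1 + b := ⟨n - 1, by omega⟩
  obtain ⟨u, hu⟩ := SympOrders.exists_unip (F := F) (p := p) h2 (show 1 ≤ b by omega) (i := 1)
    (Nat.clog_pos hp.one_lt (by omega))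
  rw [pow_one] at hu
  let ν : Matrix.symplecticGroup (Fin 1) F := ⟨-1, SymplecticGroup.neg_mem (one_mem _)⟩
  have hν2 : orderOf ν = 2 := orderOf_eq_prime (Subtype.ext (by rw [SubmonoidClass.coe_pow]; simp [ν])) fun h => by
    have h1 := congrArg (fun y : Matrix.symplecticGroup (Fin 1) F =>
      (y : Matrix (Fin 1 ⊕ Fin 1) (Fin 1 ⊕ Fin 1) F) (Sum.inl 0) (Sum.inl 0)) h
    simp only [ν, OneMemClass.coe_one, Matrix.neg_apply, Matrix.one_apply_eq] at h1
    exact h2 (by linear_combination -h1)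
  have hp2 : p ≠ 2 := fun h => h2 (by subst h; exact CharTwo.two_eq_zero)
  refine ⟨π[1 + b] (PrimeOrbitSymp.blockSp 1 b (ν, u)), ?_⟩
  rw [SympOrders.orderOf_block (p := p) (by omega) ν u (k := 1) (by rw [pow_one, ← hu, pow_orderOf_eq_one]), hν2, hu]
  exact ((Nat.coprime_primes Nat.prime_two hp).2 hp2.symm).lcm_eq_mul

end Cfsg.Lib.PrimeGraphOrth
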