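import Cfsg.Agent.Known.OrthGlue
import Cfsg.Agent.Known.FormSemisimple
import Cfsg.Agent.Classical.Misc.Spinor
import Cfsg.Agent.Classical.Misc.PrimeOrbitSymp
import Cfsg.Agent.Classical.Symp.Decomp
import Mathlib

/-! Elements of odd order prime to the characteristic pass between `O (2n+1, q)` and `Sp (2n, q)`. -/

set_option autoImplicit false
set_option linter.style.haveILetI false
set_option linter.unusedSectionVars false

open Matrix Cfsg.Lib.Classical Cfsg.Lib.Classical.Refl

namespace Cfsg.Lib.PrimeGraphOrth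

universe u

variable {F : Type u} [Field F]

section Ops

variable {ι : Type} [Fintype ι] [DecidableEq ι] (Q : QuadraticForm F (ι → F))

/-- An isometry as an endomorphism. -/
noncomputable def toEnd : Cfsg.isometryGroup F (⇑Q) →* Module.End F (ι → F) where
  toFun x := Matrix.toLin' (mat Q x)
  map_one' := Matrix.toLin'_one
  map_mul' _ _ := Matrix.toLin'_mul _ _

theorem toEnd_apply (g : Cfsg.isometryGroup F (⇑Q)) (v : ι → F) : toEnd Q g v = mat Q g *ᵥ v :=
  Matrix.toLin'_apply _ _

theorem toEnd_injective : Function.Injective (toEnd Q) := fun x y h => ext_mulVec Q fun v => by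
  rw [← toEnd_apply, ← toEnd_apply, h]

theorem toEnd_iso (g : Cfsg.isometryGroup F (⇑Q)) (v : ι → F) : Q (toEnd Q g v) = Q v := by
  rw [toEnd_apply]
  exact (mem_iff Q).mp g.2 v

theorem exists_of_end (a : Module.End F (ι → F)) (ha : ∀ v, Q (a v) = Q v) (hu : IsUnit a) :
    ∃ g : Cfsg.isometryGroup F (⇑Q), toEnd Q g = a := by
  have h : IsUnit (LinearMap.toMatrix' a) := hu.map LinearMap.toMatrixAlgEquiv'
  refine ⟨⟨h.unit, (mem_iff Q).mpr fun v => ?_⟩, ?_⟩
  · rw [IsUnit.unit_spec, LinearMap.toMatrix'_mulVec]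
    exact ha v
  · refine LinearMap.ext fun v => ?_
    rw [toEnd_apply]
    show (↑h.unit : Matrix ι ι F) *ᵥ v = _
    rw [IsUnit.unit_spec, LinearMap.toMatrix'_mulVec]

end Ops

theorem restrict_pow_apply {V : Type*} [AddCommGroup V] [Module F V] (a : Module.End F V) (U : Submodule F V)
    (hU : ∀ x ∈ U, a x ∈ U) (k : ℕ) (x : U) : (((a.restrict hU) ^ k) x : V) = (a ^ k) x := by
  induction k with
  | zero => rfl
  | succ k ih => rw [pow_succ', pow_succ', Module.End.mul_apply, Module.End.mul_apply]; exact congrArg a ih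

/-- An element of finite order prime to the characteristic has the order of its restriction to the moved space. -/
theorem orderOf_moved {V : Type*} [AddCommGroup V] [Module F V] [FiniteDimensional F V] (a : Module.End F V) {N : ℕ}
    (hN : (N : F) ≠ 0) (haN : a ^ N = 1) (hU : ∀ x ∈ LinearMap.range (a - 1), a x ∈ LinearMap.range (a - 1)) :
    orderOf (a.restrict hU) = orderOf a := by
  rw [orderOf_eq_orderOf_iff]
  intro k
  refine ⟨fun h => ?_, fun h => LinearMap.ext fun x => Subtype.ext (by rw [restrict_pow_apply, h]; rfl)⟩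
  have hc := FormSemisimple.isCompl_eigen a (1 : F) hN haN
  rw [one_smul] at hc
  refine LinearMap.ext fun v => ?_
  obtain ⟨x, hx, y, hy, rfl⟩ := Submodule.mem_sup.1 (show v ∈ LinearMap.ker (a - 1) ⊔ LinearMap.range (a - 1) by
    rw [hc.sup_eq_top]; trivial)
  have h1 : (a ^ k) x = x := by
    rw [LinearMap.mem_ker, LinearMap.sub_apply, Module.End.one_apply, sub_eq_zero] at hx
    induction k with
    | zero => rfl
    | succ j _ => exact Module.End.pow_apply a (j + 1) x ▸ Function.iterate_fixed hx _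
  have h2 : (a ^ k) y = y := by rw [← restrict_pow_apply a _ hU k ⟨y, hy⟩, h]; rfl
  rw [map_add, h1, h2]
  rfl

variable [Fintype F]

/-- An odd order element of `Sp (2w)` gives a fixed point free isometry of the same order. -/
theorem core {w : ℕ} (A : symplecticGroup (Fin w) F) (hodd : Odd (orderOf A)) (hN : (orderOf A : F) ≠ 0) :
    ∃ i, i ≤ w ∧ ∃ (Q : QuadraticForm F (Fin (2 * i) → F)) (g : Cfsg.isometryGroup F (⇑Q)),
      (QuadraticMap.polarBilin Q).Nondegenerate ∧ orderOf g = orderOf A ∧
      (∀ v, mat Q g *ᵥ v = v → v = 0) := by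
  classical
  set N := orderOf A with hNdef
  let T : symplecticGroup (Fin w) F →* Module.End F (Fin w ⊕ Fin w → F) :=
    { toFun := fun x => Matrix.toLin' x.1
      map_one' := Matrix.toLin'_one
      map_mul' := fun x y => Matrix.toLin'_mul _ _ }
  have hTinj : Function.Injective T := fun x y h => Subtype.ext (Matrix.toLin'.injective h)
  set a := T A with ha
  have haN : a ^ N = 1 := by rw [ha, ← map_pow, hNdef, pow_orderOf_eq_one, map_one]
  have hao : orderOf a = N := orderOf_injective T hTinj A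
  set B := sympBilin w F with hB
  have haB : ∀ u v, B (a u) (a v) = B u v := fun u v => by
    show B (Matrix.toLin' A.1 u) (Matrix.toLin' A.1 v) = _
    rw [Matrix.toLin'_apply, Matrix.toLin'_apply]
    exact (mem_symplectic_iff_form _).1 A.2 u v
  have hU : ∀ x ∈ LinearMap.range (a - 1), a x ∈ LinearMap.range (a - 1) := by
    rintro _ ⟨z, rfl⟩
    exact ⟨a z, by simp⟩
  set U := LinearMap.range (a - 1) with hUdef
  have hc := FormSemisimple.isCompl_eigen a (1 : F) hN haN
  rw [one_smul] at hc
  have hBU : (B.restrict U).Nondegenerate := by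
    refine FormSemisimple.restrict_nondegenerate B (sympBilin_nondegenerate w F) U _ hc.symm fun u hu v hv => ?_
    have := FormSemisimple.eigen_orth B a haB (1 : F) (one_mul 1) (u := v) (w := u) (by rwa [one_smul])
      (by rwa [one_smul])
    exact this.symm
  have hBalt : (B.restrict U).IsAlt := fun x => sympBilin_isAlt w F x.1
  set aU := a.restrict hU with haU
  have hfree : ∀ x : U, aU x = x → x = 0 := fun x hx => by
    have h1 : (x : Fin w ⊕ Fin w → F) ∈ LinearMap.ker (a - 1) ⊓ U := ⟨by
      have := congrArg Subtype.val hx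
      simp only [SetLike.mem_coe, LinearMap.mem_ker, LinearMap.sub_apply, Module.End.one_apply, sub_eq_zero]
      exact this, x.2⟩
    rw [hc.inf_eq_bot, Submodule.mem_bot] at h1
    exact Subtype.ext h1
  have haUN : aU ^ N = 1 := LinearMap.ext fun x => Subtype.ext (by rw [restrict_pow_apply, haN]; rfl)
  have hsurj : Function.Surjective aU := fun y => ⟨(aU ^ (N - 1)) y, by
    rw [← Module.End.mul_apply, ← pow_succ', Nat.sub_add_cancel hodd.pos, haUN]; rfl⟩
  have hinj2 : ∀ x : U, aU (aU x) = x → x = 0 := fun x hx => by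
    refine hfree x ?_
    obtain ⟨k, hk⟩ := hodd
    have h2 : ∀ j, (aU ^ (2 * j)) x = x := fun j => by
      induction j with
      | zero => rfl
      | succ j ih =>
        rw [show 2 * (j + 1) = 2 * j + 2 by ring, pow_add, Module.End.mul_apply, sq, Module.End.mul_apply, hx, ih]
    have := h2 (k + 1)
    rw [show 2 * (k + 1) = 1 + N by omega, pow_add, haUN, mul_one, pow_one] at this
    exact this
  obtain ⟨i, hi⟩ := even_finrank_of_symplectic hBalt hBU
  have hle : i ≤ w := by
    have h := U.finrank_le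
    simp only [Module.finrank_fintype_fun_eq_card, Fintype.card_sum, Fintype.card_fin] at h
    omega
  let e : U ≃ₗ[F] (Fin (2 * i) → F) := LinearEquiv.ofFinrankEq _ _ (by
    rw [Module.finrank_fintype_fun_eq_card, Fintype.card_fin]; omega)
  let Q₀ : QuadraticForm F U := LinearMap.BilinMap.toQuadraticMap (LinearMap.comp (B.restrict U) aU)
  let Q : QuadraticForm F (Fin (2 * i) → F) := Q₀.comp e.symm.toLinearMap
  have hQ₀ : ∀ v : U, Q₀ v = B.restrict U (aU v) v := fun v => rfl
  have hBR : ∀ u v : U, B.restrict U (aU u) (aU v) = B.restrict U u v := fun u v => haB u.1 v.1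
  have hskew : ∀ x y : U, B.restrict U x y = -B.restrict U y x := fun x y => by
    have := hBalt (x + y)
    simp only [map_add, LinearMap.add_apply, hBalt x, hBalt y, zero_add, add_zero] at this
    linear_combination this
  have hpol : ∀ u x : U, QuadraticMap.polar (⇑Q₀) u x = B.restrict U (aU (aU u) - u) (aU x) := fun u x => by
    rw [QuadraticMap.polar, hQ₀, hQ₀, hQ₀]
    simp only [map_add, LinearMap.add_apply, map_sub, LinearMap.sub_apply, hBR]
    linear_combination hskew (aU x) u
  have hnd0 : ∀ u : U, (∀ x, QuadraticMap.polar (⇑Q₀) u x = 0) → u = 0 := fun u h => by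
    refine hinj2 u (sub_eq_zero.1 (hBU.1 _ fun x => ?_))
    obtain ⟨x, rfl⟩ := hsurj x
    rw [← hpol]
    exact h x
  have hQe : ∀ x y, QuadraticMap.polar (⇑Q) x y = QuadraticMap.polar (⇑Q₀) (e.symm x) (e.symm y) := fun x y => by
    simp [QuadraticMap.polar, Q]
  have hnd1 : ∀ x, (∀ y, QuadraticMap.polar (⇑Q) x y = 0) → x = 0 := fun x h => by
    refine e.symm.injective ?_
    rw [map_zero]
    refine hnd0 _ fun y => ?_
    rw [← e.symm_apply_apply y, ← hQe]
    exact h _
  have hiso : ∀ v, Q (e.conj aU v) = Q v := fun v => by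
    simp only [Q, QuadraticMap.comp_apply, LinearEquiv.coe_coe, LinearEquiv.conj_apply, LinearMap.comp_apply,
      LinearEquiv.symm_apply_apply, hQ₀, hBR]
  have hunit : IsUnit (e.conj aU) := by
    have h : IsUnit aU := .of_pow_eq_one haUN hodd.pos.ne'
    exact h.map e.conjRingEquiv
  obtain ⟨g, hg⟩ := exists_of_end Q _ hiso hunit
  refine ⟨i, hle, Q, g, ⟨hnd1, fun x hx => hnd1 x fun y => by rw [QuadraticMap.polar_comm]; exact hx y⟩, ?_, ?_⟩
  · rw [← orderOf_injective (toEnd Q) (toEnd_injective Q) g, hg]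
    calc orderOf (e.conj aU) = orderOf aU :=
          orderOf_injective e.conjRingEquiv.toMonoidHom e.conjRingEquiv.injective aU
      _ = N := (orderOf_moved a hN haN hU).trans hao
  · intro v hv
    rw [← toEnd_apply, hg] at hv
    have h1 : aU (e.symm v) = e.symm v := by
      have := congrArg e.symm hv
      simpa [LinearEquiv.conj_apply] using this
    exact e.symm.injective ((hfree _ h1).trans (map_zero _).symm)

/-- The orthogonal sum with a standard odd dimensional space, moved to the standard space. -/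
theorem glue (h2 : (2 : F) ≠ 0) {i j n : ℕ} (hn : i + j = n) (Q : QuadraticForm F (Fin (2 * i) → F))
    (hQ : (QuadraticMap.polarBilin Q).Nondegenerate) :
    ∃ (φ : Cfsg.isometryGroup F (⇑Q) × Cfsg.isometryGroup F (⇑(oddForm j F)) →*
        Cfsg.isometryGroup F (⇑(oddForm n F)))
      (e : ((Fin (2 * i) → F) × (Unit ⊕ (Fin j ⊕ Fin j) → F)) ≃ₗ[F] (Unit ⊕ (Fin n ⊕ Fin n) → F)) (c : F),
      Function.Injective φ ∧ c ≠ 0 ∧ (∀ v, c * oddForm n F (e v) = Q v.1 + oddForm j F v.2) ∧
      ∀ x y v, mat (oddForm n F) (φ (x, y)) *ᵥ e v = e (mat Q x *ᵥ v.1, mat (oddForm j F) y *ᵥ v.2) := by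
  classical
  obtain ⟨g, c, hc, hg⟩ := OrthGlue.odd_equiv (m := n) (Q := Q.prod (oddForm j F))
    (by rw [Module.finrank_prod]; simp; omega)
    (OrthGlue.prod_nondegenerate hQ (oddForm_nondegenerate h2 j))
  let e := g.symm
  have he : ∀ v, c * oddForm n F (e v) = Q v.1 + oddForm j F v.2 := fun v => by
    rw [oddForm_coe, ← hg, g.apply_symm_apply, QuadraticMap.prod_apply]
  let D : Cfsg.isometryGroup F (⇑Q) × Cfsg.isometryGroup F (⇑(oddForm j F)) →* Module.End F ((Fin (2 * i) → F) × (Unit ⊕ (Fin j ⊕ Fin j) → F)) :=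
    { toFun := fun x => LinearMap.prodMap (toEnd Q x.1) (toEnd (oddForm j F) x.2)
      map_one' := LinearMap.ext fun v => by simp
      map_mul' := fun x y => LinearMap.ext fun v => by simp }
  let M : Cfsg.isometryGroup F (⇑Q) × Cfsg.isometryGroup F (⇑(oddForm j F)) →* Matrix (Unit ⊕ (Fin n ⊕ Fin n)) (Unit ⊕ (Fin n ⊕ Fin n)) F :=
    ((LinearMap.toMatrixAlgEquiv' (R := F) (n := Unit ⊕ (Fin n ⊕ Fin n))).toMonoidHom.comp
      e.conjRingEquiv.toMonoidHom).comp D
  have hM : ∀ x v, M x *ᵥ e v = e (mat Q x.1 *ᵥ v.1, mat (oddForm j F) x.2 *ᵥ v.2) := fun x v => by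
    show LinearMap.toMatrix' (e.conj (D x)) *ᵥ e v = _
    rw [LinearMap.toMatrix'_mulVec]
    simp [LinearEquiv.conj_apply, D, toEnd_apply]
  have hmem : ∀ x, M.toHomUnits x ∈ Cfsg.isometryGroup F (⇑(oddForm n F)) := fun x => (mem_iff _).mpr fun v => by
    obtain ⟨v, rfl⟩ := e.surjective v
    refine mul_left_cancel₀ hc ?_
    show c * oddForm n F (M x *ᵥ e v) = _
    rw [hM, he, he, (mem_iff Q).mp x.1.2, (mem_iff _).mp x.2.2]
  refine ⟨M.toHomUnits.codRestrict _ hmem, e, c, fun x y h => ?_, hc, he, fun x y v => hM (x, y) v⟩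
  have h' : ∀ v : (Fin (2 * i) → F) × (Unit ⊕ (Fin j ⊕ Fin j) → F), e (mat Q x.1 *ᵥ v.1, mat (oddForm j F) x.2 *ᵥ v.2) =
      e (mat Q y.1 *ᵥ v.1, mat (oddForm j F) y.2 *ᵥ v.2) := fun v => by
    rw [← hM, ← hM]
    exact congrArg (fun z => mat (oddForm n F) z *ᵥ e v) h
  refine Prod.ext (ext_mulVec Q fun v => ?_) (ext_mulVec _ fun v => ?_)
  · exact congrArg Prod.fst (e.injective (h' (v, 0)))
  · exact congrArg Prod.snd (e.injective (h' (0, v)))

/-- An element of odd order prime to the characteristic passes from `Sp (2n)` to `O (2n + 1)`. -/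
theorem to_orth (h2 : (2 : F) ≠ 0) {n : ℕ} (A : symplecticGroup (Fin n) F) (hodd : Odd (orderOf A))
    (hN : (orderOf A : F) ≠ 0) : ∃ g : Cfsg.isometryGroup F (⇑(oddForm n F)), orderOf g = orderOf A := by
  classical
  obtain ⟨i, hi, Q, g, hQ, hg, -⟩ := core A hodd hN
  obtain ⟨φ, -, -, hφ, -⟩ := glue h2 (show i + (n - i) = n by omega) Q hQ
  exact ⟨φ (g, 1), by rw [orderOf_injective φ hφ, Prod.orderOf_mk, orderOf_one, Nat.lcm_one_right, hg]⟩

/-- An element of odd order prime to the characteristic passes from `O (2n + 1)` to `Sp (2n)`. -/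
theorem to_symp {ι : Type} [Fintype ι] [DecidableEq ι] (Q : QuadraticForm F (ι → F))
    (hQ : (QuadraticMap.polarBilin Q).Nondegenerate) {n : ℕ} (hι : Fintype.card ι = 2 * n + 1)
    (g : Cfsg.isometryGroup F (⇑Q)) (hodd : Odd (orderOf g)) (hN : (orderOf g : F) ≠ 0) :
    ∃ A : symplecticGroup (Fin n) F, orderOf A = orderOf g := by
  classical
  set N := orderOf g with hNdef
  set a := toEnd Q g with ha
  have haN : a ^ N = 1 := by rw [ha, ← map_pow, hNdef, pow_orderOf_eq_one, map_one]
  have hao : orderOf a = N := orderOf_injective (toEnd Q) (toEnd_injective Q) g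
  let P : LinearMap.BilinForm F (ι → F) := QuadraticMap.polarBilin Q
  have haP : ∀ u v, P (a u) (a v) = P u v := fun u v => by
    show QuadraticMap.polar (⇑Q) (a u) (a v) = QuadraticMap.polar (⇑Q) u v
    simp only [QuadraticMap.polar, ← map_add, ha, toEnd_iso]
  have hU : ∀ x ∈ LinearMap.range (a - 1), a x ∈ LinearMap.range (a - 1) := by
    rintro _ ⟨z, rfl⟩
    exact ⟨a z, by simp⟩
  set U := LinearMap.range (a - 1) with hUdef
  have hc := FormSemisimple.isCompl_eigen a (1 : F) hN haN
  rw [one_smul] at hc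
  have hPU : (P.restrict U).Nondegenerate := by
    refine FormSemisimple.restrict_nondegenerate P hQ U _ hc.symm fun u hu v hv => ?_
    have := FormSemisimple.eigen_orth P a haP (1 : F) (one_mul 1) (u := v) (w := u) (by rwa [one_smul])
      (by rwa [one_smul])
    exact this.symm
  set aU := a.restrict hU with haU
  have haUN : aU ^ N = 1 := LinearMap.ext fun x => Subtype.ext (by rw [restrict_pow_apply, haN]; rfl)
  have hPR : ∀ u v : U, P.restrict U (aU u) (aU v) = P.restrict U u v := fun u v => haP u.1 v.1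
  have hfree : ∀ x : U, aU x = x → x = 0 := fun x hx => by
    have h1 : (x : ι → F) ∈ LinearMap.ker (a - 1) ⊓ U := ⟨by
      have := congrArg Subtype.val hx
      simp only [SetLike.mem_coe, LinearMap.mem_ker, LinearMap.sub_apply, Module.End.one_apply, sub_eq_zero]
      exact this, x.2⟩
    rw [hc.inf_eq_bot, Submodule.mem_bot] at h1
    exact Subtype.ext h1
  have hinj2 : ∀ x : U, aU (aU x) = x → x = 0 := fun x hx => by
    refine hfree x ?_
    obtain ⟨k, hk⟩ := hodd
    have h2 : ∀ j, (aU ^ (2 * j)) x = x := fun j => by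
      induction j with
      | zero => rfl
      | succ j ih =>
        rw [show 2 * (j + 1) = 2 * j + 2 by ring, pow_add, Module.End.mul_apply, sq, Module.End.mul_apply, hx, ih]
    have := h2 (k + 1)
    rw [show 2 * (k + 1) = 1 + N by omega, pow_add, haUN, mul_one, pow_one] at this
    exact this
  set bU := aU ^ (N - 1) with hbU
  have hab : ∀ x, aU (bU x) = x := fun x => by
    rw [hbU, ← Module.End.mul_apply, ← pow_succ', Nat.sub_add_cancel hodd.pos, haUN]; rfl
  have hba : ∀ x, bU (aU x) = x := fun x => by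
    rw [hbU, ← Module.End.mul_apply, ← pow_succ, Nat.sub_add_cancel hodd.pos, haUN]; rfl
  let B : LinearMap.BilinForm F U := (P.restrict U).comp (bU - aU) LinearMap.id
  have hBapp : ∀ x y, B x y = P.restrict U (bU x) y - P.restrict U (aU x) y := fun x y => by
    show P.restrict U ((bU - aU) x) y = _
    rw [LinearMap.sub_apply, map_sub, LinearMap.sub_apply]
  have hB1 : B.IsAlt := fun x => by
    rw [hBapp, sub_eq_zero, ← hPR (bU x) x, hab]
    exact QuadraticMap.polar_comm _ _ _
  have hB2 : ∀ x, (∀ y, B x y = 0) → x = 0 := fun x hx => by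
    have h1 : bU x - aU x = 0 := hPU.1 _ fun y => by rw [map_sub, LinearMap.sub_apply, ← hBapp]; exact hx y
    refine hinj2 x ?_
    rw [← sub_eq_zero.1 h1, hab]
  have hB3 : B.Nondegenerate := ⟨hB2, fun x hx => hB2 x fun y => by
    rw [← hB1.neg_eq, hx, neg_zero]⟩
  have hBa : ∀ x y, B (aU x) (aU y) = B x y := fun x y => by
    rw [hBapp, hBapp, hba, ← hPR (bU x) y, hab, hPR (aU x) y]
  obtain ⟨i, b, hdim, hb1, hb2, hb3⟩ := exists_symplectic_basis_nondegenerate hB1 hB3
  have hle : i ≤ n := by
    have h := U.finrank_le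
    rw [Module.finrank_fintype_fun_eq_card, hι] at h
    omega
  let L := b.equivFun
  have hL : ∀ x y, B x y = -sympBilin i F (L x) (L y) := by
    have e : B = -((sympBilin i F).compl₁₂ L.toLinearMap L.toLinearMap) := by
      refine LinearMap.ext_basis b b fun s t => ?_
      rcases s with s | s <;> rcases t with t | t <;>
        simp [L, sympBilin_eq_sum, hb1, hb2, hb3, Finsupp.single_apply, eq_comm]
      rw [← hB1.neg_eq, hb1]
      simp [eq_comm]
    intro x y
    conv_lhs => rw [e]
    rfl
  let A₀ : Matrix (Fin i ⊕ Fin i) (Fin i ⊕ Fin i) F := LinearMap.toMatrix' (L.conj aU)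
  have hA₀ : A₀ ∈ symplecticGroup (Fin i) F := by
    rw [mem_symplectic_iff_form]
    intro x y
    obtain ⟨x, rfl⟩ := L.surjective x
    obtain ⟨y, rfl⟩ := L.surjective y
    simp only [A₀, LinearMap.toMatrix'_mulVec, LinearEquiv.conj_apply, LinearMap.comp_apply, LinearEquiv.coe_coe,
      LinearEquiv.symm_apply_apply]
    exact neg_injective ((hL _ _).symm.trans ((hBa x y).trans (hL x y)))
  obtain ⟨d, rfl⟩ : ∃ d, n = i + d := ⟨n - i, by omega⟩
  refine ⟨PrimeOrbitSymp.blockSp i d (⟨A₀, hA₀⟩, 1), ?_⟩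
  rw [orderOf_injective _ (PrimeOrbitSymp.blockSp_injective i d), Prod.orderOf_mk, orderOf_one, Nat.lcm_one_right,
    ← orderOf_injective (symplecticGroup (Fin i) F).subtype Subtype.val_injective]
  show orderOf A₀ = _
  calc orderOf A₀ = orderOf (L.conj aU) :=
        orderOf_injective (LinearMap.toMatrixAlgEquiv' (R := F) (n := Fin i ⊕ Fin i)).toMonoidHom
          (LinearMap.toMatrixAlgEquiv' (R := F) (n := Fin i ⊕ Fin i)).injective _
    _ = orderOf aU := orderOf_injective L.conjRingEquiv.toMonoidHom L.conjRingEquiv.injective aU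
    _ = N := (orderOf_moved a hN haN hU).trans hao

end Cfsg.Lib.PrimeGraphOrth
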